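import Cfsg.Agent.Lib.Walter.NoField.Three.Lines
import Cfsg.Agent.Lib.Coprime.Glauberman
import Cfsg.Agent.Lib.PSolvable.HallHigman
import Cfsg.Agent.Lib.Cores.Normalizer
import Cfsg.Agent.Lib.OddOrder.FeitThompson

/-!
# Section Z, characteristic three: the action on `Ω₁(Z(J(P)))`

`false_of_gen`: in the situation `Hyp M t h r` no element of `⟨m t(m)⁻¹ : m ∈ M⟩` fixed by `t`
normalises `⟨h⟩` without centralising it.  A `t`-invariant Sylow `r`-subgroup `R` over `h` is either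
centralised by `t` or centralises some `A = ⟨x, h⟩`; in the second case `A` is normal modulo
`O_{r'}(M)` and the determinant of the action on `A` is one on the subgroup above.

Owner: helper37.
-/

set_option autoImplicit false
set_option linter.unusedSectionVars false
set_option linter.style.haveILetI false

namespace Cfsg.Agent.Lib.Walter.NoField.Three

open Subgroup Matrix
open scoped Pointwise

variable {V : Type*} [CommGroup V] [Finite V] {M : Subgroup (MulAut V)} {t h : MulAut V} {r : ℕ}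
  [Fact r.Prime] (H : Hyp M t h r)

namespace Hyp

include H

/-- The action of `t` on `M`. -/
def tau : M ≃* M where
  toFun m := ⟨t * m * t, H.conj m m.2⟩
  invFun m := ⟨t * m * t, H.conj m m.2⟩
  left_inv m := Subtype.ext (by
    show t * (t * (m : MulAut V) * t) * t = m
    calc t * (t * (m : MulAut V) * t) * t = t * t * m * (t * t) := by group
      _ = m := by rw [H.sq_t, one_mul, mul_one])
  right_inv m := Subtype.ext (by
    show t * (t * (m : MulAut V) * t) * t = m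
    calc t * (t * (m : MulAut V) * t) * t = t * t * m * (t * t) := by group
      _ = m := by rw [H.sq_t, one_mul, mul_one])
  map_mul' a b := Subtype.ext (by
    show t * ((a : MulAut V) * b) * t = t * a * t * (t * b * t)
    calc t * ((a : MulAut V) * b) * t = t * a * 1 * b * t := by group
      _ = t * a * (t * t) * b * t := by rw [H.sq_t]
      _ = _ := by group)

theorem coe_tau (m : M) : (H.tau m : MulAut V) = t * m * t := rfl

theorem tau_tau (m : M) : H.tau (H.tau m) = m := H.tau.left_inv m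

theorem tau_core {m : M} (hm : m ∈ Cfsg.pPrimeCore r M) : H.tau m ∈ Cfsg.pPrimeCore r M := by
  have e := Subgroup.characteristic_iff_comap_eq.1
    (Cores.pPrimeCore_characteristic (G := ↥M) r) H.tau
  rw [← e] at hm
  exact hm

theorem tau_congr {a b : M}
    (e : (QuotientGroup.mk a : M ⧸ Cfsg.pPrimeCore r M) = QuotientGroup.mk b) :
    (QuotientGroup.mk (H.tau a) : M ⧸ Cfsg.pPrimeCore r M) = QuotientGroup.mk (H.tau b) := by
  rw [QuotientGroup.eq] at e ⊢
  rw [← map_inv, ← map_mul]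
  exact H.tau_core e

/-- An element of `O_{r'}` of `r`-power order is trivial. -/
theorem eq_one_of_core {R : Subgroup (MulAut V)} (hR : IsPGroup r R) {m : M}
    (hm : (m : MulAut V) ∈ R) (hc : m ∈ Cfsg.pPrimeCore r M) : m = 1 := by
  obtain ⟨s, hs⟩ := hR ⟨m, hm⟩
  replace hs : (m : MulAut V) ^ r ^ s = 1 := congrArg Subtype.val hs
  have h1 : orderOf m ∣ r ^ s := orderOf_dvd_of_pow_eq_one (Subtype.ext (by simpa using hs))
  have h2 := Subgroup.orderOf_dvd_natCard _ hc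
  exact orderOf_eq_one_iff.1 (Nat.eq_one_of_dvd_coprimes
    ((((Fact.out : r.Prime).coprime_iff_not_dvd).2 (Cores.not_dvd_card_pPrimeCore r)).pow_left s)
    h1 h2)

/-- A `t`-invariant Sylow `r`-subgroup over `h`. -/
theorem exists_R : ∃ R : Subgroup (MulAut V), R ≤ M ∧ IsPGroup r R ∧ h ∈ R ∧
    (∀ m ∈ R, t * m * t ∈ R) ∧
    Cfsg.pCore r (M ⧸ Cfsg.pPrimeCore r M) ≤
      (R.subgroupOf M).map (QuotientGroup.mk' (Cfsg.pPrimeCore r M)) := by
  have hti : t⁻¹ = t := inv_eq_of_mul_eq_one_right H.sq_t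
  have htM : t ∈ normalizer (M : Set (MulAut V)) :=
    mem_normalizer_fintype fun m hm => by rw [hti]; exact H.conj m hm
  have hcop : (Nat.card (zpowers t)).Coprime (Nat.card M) := by
    rw [Nat.card_zpowers]
    exact (Nat.coprime_two_left.2 H.odd).coprime_dvd_left
      (orderOf_dvd_of_pow_eq_one (by rw [pow_two, H.sq_t]))
  have hth : t ∈ normalizer ((zpowers h : Subgroup (MulAut V)) : Set (MulAut V)) := by
    refine centralizer_le_normalizer _ (mem_centralizer_iff.2 fun m hm => ?_)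
    obtain ⟨i, rfl⟩ := mem_zpowers_iff.1 hm
    exact (H.comm.symm.zpow_left i).eq
  obtain ⟨P, hP, hPn⟩ := Coprime.exists_invariant_sylow_ge (zpowers_le.2 htM) hcop
    (Or.inl (Coprime.isSolvable_zpowers t)) r (zpowers h) (zpowers_le.2 H.mem)
    (IsPGroup.of_card (n := 1) (by rw [Nat.card_zpowers, H.ord, pow_one])) (zpowers_le.2 hth)
  refine ⟨(P : Subgroup M).map M.subtype, map_subtype_le _, P.isPGroup'.map _, hP (mem_zpowers h),
    fun m hm => ?_, ?_⟩
  · have := (mem_normalizer_iff.1 (hPn (mem_zpowers t)) m).1 hm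
    rwa [hti] at this
  · rw [Subgroup.subgroupOf, comap_map_eq_self_of_injective M.subtype_injective]
    have hs := QuotientGroup.mk'_surjective (Cfsg.pPrimeCore r M)
    exact ((Cores.pCore_isPGroup r).le_sylow_of_normal (P.mapSurjective hs)).trans
      (le_of_eq (Sylow.coe_mapSurjective _ _))

theorem centralizer_core_le :
    centralizer ((Cfsg.pCore r (M ⧸ Cfsg.pPrimeCore r M) : Subgroup _) :
      Set (M ⧸ Cfsg.pPrimeCore r M)) ≤ Cfsg.pCore r (M ⧸ Cfsg.pPrimeCore r M) := by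
  haveI : Group.IsSolvable M := OddOrder.FeitThompson.isSolvable_of_odd_card H.odd
  exact PSolvable.centralizer_pCore_le
    (PSolvable.isPSolvable_quotient PSolvable.isPSolvable_of_isSolvable _)
    (Cores.pPrimeCore_quotient_pPrimeCore r)

/-- If `t` centralises `R`, the generators `m t(m)⁻¹` lie in `O_{r'}(M)`. -/
theorem gen_mem_core {R : Subgroup (MulAut V)} (hR : IsPGroup r R)
    (hB : Cfsg.pCore r (M ⧸ Cfsg.pPrimeCore r M) ≤
      (R.subgroupOf M).map (QuotientGroup.mk' (Cfsg.pPrimeCore r M)))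
    (hfix : ∀ m ∈ R, Commute t m) (m : M) : m * (H.tau m)⁻¹ ∈ Cfsg.pPrimeCore r M := by
  set O := Cfsg.pPrimeCore r M with hO
  set B := Cfsg.pCore r (M ⧸ O) with hBdef
  set i := m * (H.tau m)⁻¹ with hi
  have hρt : ∀ ρ : M, (ρ : MulAut V) ∈ R → H.tau ρ = ρ := fun ρ hρ => Subtype.ext (by
    rw [H.coe_tau, (hfix _ hρ).eq, mul_assoc, H.sq_t, mul_one])
  have hlift : ∀ b ∈ B, ∃ ρ : M, (ρ : MulAut V) ∈ R ∧ QuotientGroup.mk ρ = b := fun b hb => by
    obtain ⟨ρ, hρ, e⟩ := hB hb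
    exact ⟨ρ, hρ, e⟩
  have hcb : (QuotientGroup.mk i : M ⧸ O) ∈ B := by
    refine H.centralizer_core_le (mem_centralizer_iff.2 fun b hb => ?_)
    haveI : B.Normal := Cfsg.pCore_normal r _
    have hb0 := (inferInstance : B.Normal).conj_mem b hb (QuotientGroup.mk (H.tau m) : M ⧸ O)⁻¹
    obtain ⟨ρ, hρ, e0⟩ := hlift _ hb0
    rw [← e0] at hb0
    obtain ⟨ρ', hρ', e'⟩ := hlift _
      ((inferInstance : B.Normal).conj_mem _ hb0 (QuotientGroup.mk m : M ⧸ O))
    have e1 : (QuotientGroup.mk ρ' : M ⧸ O) = QuotientGroup.mk (H.tau m * ρ * (H.tau m)⁻¹) := by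
      have h' := H.tau_congr (a := ρ') (b := m * ρ * m⁻¹) (by rw [e']; rfl)
      rwa [hρt ρ' hρ', map_mul, map_mul, map_inv, hρt ρ hρ] at h'
    rw [e', QuotientGroup.mk_mul, QuotientGroup.mk_mul, QuotientGroup.mk_inv, e0, inv_inv] at e1
    simp only [hi, QuotientGroup.mk_mul, QuotientGroup.mk_inv]
    generalize (QuotientGroup.mk m : M ⧸ O) = a at e1 ⊢
    generalize (QuotientGroup.mk (H.tau m) : M ⧸ O) = c at e1 ⊢
    calc b * (a * c⁻¹) = c * (c⁻¹ * b * c) * c⁻¹ * a * c⁻¹ := by group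
      _ = a * (c⁻¹ * b * c) * a⁻¹ * a * c⁻¹ := by rw [e1]
      _ = a * c⁻¹ * b := by group
  obtain ⟨ρ, hρ, e⟩ := hlift _ hcb
  have e1 := H.tau_congr e
  have hti' : H.tau i = i⁻¹ := by
    rw [hi, map_mul, map_inv, H.tau_tau, _root_.mul_inv_rev, inv_inv]
  rw [hρt ρ hρ, hti', QuotientGroup.mk_inv, ← e] at e1
  have h2 : (QuotientGroup.mk (ρ * ρ) : M ⧸ O) = 1 := by
    rw [QuotientGroup.mk_mul]; nth_rewrite 1 [e1]; exact inv_mul_cancel _
  have h3 : ρ * ρ = 1 := H.eq_one_of_core hR (mul_mem hρ hρ) ((QuotientGroup.eq_one_iff _).1 h2)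
  have h4 : ρ = 1 := Subtype.ext (H.eq_one_of_sq ρ.2 (congrArg Subtype.val h3))
  rw [← QuotientGroup.eq_one_iff, ← e, h4]
  rfl

/-- Either `t` centralises `R` or it inverts an element of order `r` of `R ∩ C(h)`. -/
theorem exists_inv {R : Subgroup (MulAut V)} (hRM : R ≤ M) (hR : IsPGroup r R) (hh : h ∈ R)
    (htR : ∀ m ∈ R, t * m * t ∈ R) :
    (∀ m ∈ R, Commute t m) ∨ ∃ x ∈ R, Inv M t h r x := by
  rw [or_iff_not_imp_left]
  intro hno
  push Not at hno
  obtain ⟨m₀, hm₀, hm₀t⟩ := hno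
  have hlt : R ⊓ centralizer {t} < R := lt_of_le_of_ne inf_le_left fun e => by
    have h' : m₀ ∈ centralizer ({t} : Set (MulAut V)) := (mem_inf.1 (e ▸ hm₀)).2
    exact hm₀t (mem_centralizer_singleton_iff.1 h').symm
  obtain ⟨g, hgN, hgn⟩ :=
    SetLike.exists_of_lt (Cores.Normalizer.lt_normalizer_inf hR.isNilpotent hlt)
  obtain ⟨hgn', hgR⟩ := mem_inf.1 hgN
  obtain ⟨s, hs⟩ := hR ⟨g, hgR⟩
  replace hs : g ^ r ^ s = 1 := congrArg Subtype.val hs
  have hch : Commute g h := by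
    have h1 : g * h * g⁻¹ ∈ R ⊓ centralizer {t} :=
      (mem_normalizer_iff.1 hgn' h).1 (mem_inf.2 ⟨hh, mem_centralizer_singleton_iff.2 H.comm.symm⟩)
    obtain ⟨hR1, ht1⟩ := mem_inf.1 h1
    refine commute_of_conj_zpowers hs H.h_pow (H.fixed _ (hRM hR1)
      (mem_centralizer_singleton_iff.1 ht1).symm ?_)
    rw [conj_pow, H.h_pow, mul_one, mul_inv_cancel]
  have hgt : Commute (t * g * t) h := by
    have e : t * h = h * t := H.comm.eq
    calc t * g * t * h = t * g * (t * h) := by group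
      _ = t * (g * h) * t := by rw [e]; group
      _ = t * (h * g) * t := by rw [hch.eq]
      _ = (t * h) * g * t := by group
      _ = h * (t * g * t) := by rw [e]; group
  set x₀ := g * (t * g⁻¹ * t) with hx₀
  have hti : t⁻¹ = t := inv_eq_of_mul_eq_one_right H.sq_t
  have hx0R : x₀ ∈ R := mul_mem hgR (htR _ (inv_mem hgR))
  have hx0h : Commute h x₀ := by
    have e : t * g⁻¹ * t = (t * g * t)⁻¹ := by
      simp only [_root_.mul_inv_rev, hti]; group
    rw [hx₀, e]
    exact hch.symm.mul_right hgt.symm.inv_right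
  have hx0i : t * x₀ * t = x₀⁻¹ := by
    rw [hx₀]
    simp only [_root_.mul_inv_rev, inv_inv, hti]
    calc t * (g * (t * g⁻¹ * t)) * t = t * g * t * g⁻¹ * (t * t) := by group
      _ = t * (g * t) * g⁻¹ := by rw [H.sq_t]; group
      _ = _ := by group
  have hx01 : x₀ ≠ 1 := fun e => by
    have h2 : t * g⁻¹ * t = g⁻¹ := eq_inv_of_mul_eq_one_right e
    refine hgn (mem_inf.2 ⟨hgR, mem_centralizer_singleton_iff.2 ?_⟩)
    have h3 : Commute t g⁻¹ := by
      calc t * g⁻¹ = t * g⁻¹ * (t * t) := by rw [H.sq_t, mul_one]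
        _ = t * g⁻¹ * t * t := by group
        _ = g⁻¹ * t := by rw [h2]
    exact (inv_inv g ▸ h3.inv_right).eq.symm
  obtain ⟨s', hs'⟩ := hR ⟨x₀, hx0R⟩
  replace hs' : x₀ ^ r ^ s' = 1 := congrArg Subtype.val hs'
  obtain ⟨j, -, hj⟩ := (Nat.dvd_prime_pow (Fact.out : r.Prime)).1 (orderOf_dvd_of_pow_eq_one hs')
  obtain ⟨j, rfl⟩ : ∃ i, j = i + 1 := Nat.exists_eq_succ_of_ne_zero fun e => hx01 (by
    rw [e, pow_zero] at hj; exact orderOf_eq_one_iff.1 hj)
  refine ⟨x₀ ^ r ^ j, pow_mem hx0R _, H, hRM (pow_mem hx0R _), ?_, ?_, hx0h.pow_right _, ?_⟩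
  · rw [← pow_mul, ← pow_succ, ← hj, pow_orderOf_eq_one]
  · intro e
    have h5 := Nat.le_of_dvd (pow_pos (Fact.out : r.Prime).pos _) (hj ▸ orderOf_dvd_of_pow_eq_one e)
    exact absurd h5 (not_le.2 (Nat.pow_lt_pow_succ (Fact.out : r.Prime).one_lt))
  · have h6 : t * x₀ * t⁻¹ = x₀⁻¹ := by rw [hti]; exact hx0i
    rw [show t * x₀ ^ r ^ j * t = t * x₀ ^ r ^ j * t⁻¹ by rw [hti], ← conj_pow, h6, inv_pow]

end Hyp

namespace Inv

variable {x : MulAut V} {H} (X : Inv M t h r x) {k : ZMod r} (hk : k ≠ 0)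
  (hW : fx (X.aa k) ≠ ⊥)
include X hk hW

/-- An `r`-element normalising `⟨x, h⟩` centralises it. -/
theorem commute_of_normalizes {n : MulAut V} {s : ℕ} (hn : n ^ r ^ s = 1)
    (hA : ∀ i j : ZMod r, ∃ i' j' : ZMod r, n * (pw x i * pw h j) * n⁻¹ = pw x i' * pw h j') :
    Commute n x ∧ Commute n h := by
  have key : ∀ l : ZMod r, l ≠ 0 → fx (X.aa l) ≠ ⊥ → Commute n (X.aa l) := by
    intro l hl hWl
    obtain ⟨v, hv, hv1⟩ : ∃ v ∈ fx (X.aa l), v ≠ 1 := by
      by_contra hno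
      push Not at hno
      exact hWl ((eq_bot_iff_forall _).2 hno)
    have hz : ∀ d : ℕ, ∃ i j : ZMod r, n ^ d * X.aa l * (n ^ d)⁻¹ = pw x i * pw h j := by
      intro d
      induction d with
      | zero => exact ⟨1, l, by rw [pow_zero, one_mul, inv_one, mul_one, pw_one X.pow]; rfl⟩
      | succ d ih =>
        obtain ⟨i, j, e⟩ := ih
        obtain ⟨i', j', e'⟩ := hA i j
        exact ⟨i', j', by rw [← e', ← e, pow_succ']; group⟩
    have hcls : ∀ d : ℕ, ∃ o : Fin 3,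
        n ^ d * X.aa l * (n ^ d)⁻¹ ∈ zpowers (X.aa (![0, l, -l] o)) := by
      intro d
      obtain ⟨i, j, e⟩ := hz d
      have hf : (n ^ d) v ∈ fx (pw x i * pw h j) := by
        rw [← e]
        show (n ^ d) (X.aa l ((n ^ d)⁻¹ ((n ^ d) v))) = (n ^ d) v
        rw [show (n ^ d)⁻¹ ((n ^ d) v) = v from (n ^ d).symm_apply_apply v, mem_fx.1 hv]
      have hne : (n ^ d) v ≠ 1 := fun e' => hv1 ((map_eq_one_iff _ (n ^ d).injective).1 e')
      rcases X.cases_fx hl hWl hne hf with ⟨hi, hj⟩ | ⟨hi, hj⟩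
      · refine ⟨0, ?_⟩
        rw [e, hi, hj, pw_zero, pw_zero, one_mul]
        exact one_mem _
      · have hgen : ∀ o : ZMod r, j = o * i →
            pw x i * pw h j ∈ zpowers (X.aa o) := fun o ho => by
          rw [ho, ← X.pw_aa o i]
          exact pow_mem (mem_zpowers _) _
        rcases hj with hj | hj | hj
        · exact ⟨0, e ▸ hgen 0 (by rw [hj, zero_mul])⟩
        · exact ⟨1, e ▸ hgen l hj⟩
        · exact ⟨2, e ▸ hgen (-l) (by rw [hj, neg_mul])⟩
    choose o ho using hcls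
    obtain ⟨d₁, d₂, hne, heq⟩ := Fintype.exists_ne_map_eq_of_card_lt
      (fun d : Fin 4 => o d) (by simp)
    wlog hlt : (d₁ : ℕ) < d₂ generalizing d₁ d₂
    · exact this d₂ d₁ hne.symm heq.symm (lt_of_le_of_ne (not_lt.1 hlt) fun e => hne (Fin.ext e.symm))
    set c := X.aa (![0, l, -l] (o d₁)) with hc
    have hcr : c ^ r = 1 := X.aa_pow _
    have haa : X.aa l ≠ 1 := fun e => by
      have h1 := X.pw_aa l 1
      rw [e, pw, one_pow, pw_one X.pow, mul_one] at h1
      have h2 : x = pw h (-l) := by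
        rw [pw_neg X.base.h_pow]; exact eq_inv_of_mul_eq_one_left h1.symm
      have h4 : t * x * t = x := by
        rw [h2, (cr X.base.comm (-l)).eq, mul_assoc, X.base.sq_t, mul_one]
      rw [X.inv] at h4
      have h5 : x * x = 1 := by nth_rewrite 1 [← h4]; exact inv_mul_cancel x
      exact X.ne (X.base.eq_one_of_sq X.mem h5)
    have hgen : zpowers (n ^ (d₁ : ℕ) * X.aa l * (n ^ (d₁ : ℕ))⁻¹) = zpowers c := by
      refine Subgroup.eq_of_le_of_card_ge (zpowers_le.2 (ho _)) ?_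
      rw [Nat.card_zpowers, Nat.card_zpowers,
        orderOf_eq_prime (p := r) (by rw [conj_pow, X.aa_pow, mul_one, mul_inv_cancel])
          (fun e => haa (conj_eq_one_iff.1 e))]
      exact Nat.le_of_dvd (Fact.out : r.Prime).pos (orderOf_dvd_of_pow_eq_one hcr)
    obtain ⟨z, hz'⟩ := mem_zpowers_iff.1 (hgen.symm ▸ (by rw [hc, heq]; exact ho _) :
      n ^ (d₂ : ℕ) * X.aa l * (n ^ (d₂ : ℕ))⁻¹ ∈ zpowers (n ^ (d₁ : ℕ) * X.aa l * (n ^ (d₁ : ℕ))⁻¹))
    set m := (d₂ : ℕ) - d₁ with hm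
    have hm3 : 0 < m ∧ m < r := by
      have := d₂.isLt; have := X.base.five; omega
    have hd : n ^ m * X.aa l * (n ^ m)⁻¹ = X.aa l ^ z := by
      rw [conj_zpow, show (d₂ : ℕ) = d₁ + m by omega, pow_add] at hz'
      calc n ^ m * X.aa l * (n ^ m)⁻¹
          = (n ^ (d₁ : ℕ))⁻¹ * (n ^ (d₁ : ℕ) * n ^ m * X.aa l * (n ^ (d₁ : ℕ) * n ^ m)⁻¹) *
              n ^ (d₁ : ℕ) := by group
        _ = _ := by rw [← hz']; group
    have hcm : Commute (n ^ m) (X.aa l) :=
      commute_of_conj_zpowers (s := s) (by rw [← pow_mul, mul_comm, pow_mul, hn, one_pow])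
        (X.aa_pow l) (hd ▸ zpow_mem (mem_zpowers _) z)
    have hdn : orderOf n ∣ r ^ s := orderOf_dvd_of_pow_eq_one hn
    obtain ⟨q, hq⟩ := exists_pow_eq_self_of_coprime (x := n) (n := m)
      ((((Nat.coprime_of_lt_prime hm3.1.ne' hm3.2 (Fact.out : r.Prime)).symm).pow_right s).coprime_dvd_right
        hdn)
    rw [← hq]
    exact hcm.pow_left q
  have hW' : fx (X.aa (-k)) ≠ ⊥ := fun e => hW ((eq_bot_iff_forall _).2 fun v hv => by
    have h1 := X.t_fx hv
    rw [e, mem_bot] at h1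
    rw [← X.base.tt v, h1, map_one])
  have c1 := key k hk hW
  have c2 := key (-k) (neg_ne_zero.2 hk) hW'
  have c3 : Commute n (pw h (k + k)) := by
    have h3 := c1.mul_right c2.inv_right
    rwa [aa, aa, _root_.mul_inv_rev, ← pw_neg X.base.h_pow, neg_neg,
      show x * pw h k * (pw h k * x⁻¹) = x * (pw h k * pw h k) * x⁻¹ by group,
      ← pw_add X.base.h_pow, (cr X.comm.symm (k + k)).eq, mul_inv_cancel_right] at h3
  have hnh : Commute n h := by
    have h4 := cr c3 (k + k)⁻¹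
    rwa [← pw_mul X.base.h_pow, mul_inv_cancel₀, pw_one X.base.h_pow] at h4
    rw [← two_mul]
    exact mul_ne_zero X.base.two_ne hk
  refine ⟨?_, hnh⟩
  have h5 := c1.mul_right (cr hnh k).inv_right
  rwa [aa, mul_inv_cancel_right] at h5

/-- `R` centralises `⟨x, h⟩`. -/
theorem commute_R {R : Subgroup (MulAut V)} (hRM : R ≤ M) (hR : IsPGroup r R) (hh : h ∈ R)
    (hx : x ∈ R) : ∀ g ∈ R, Commute g x ∧ Commute g h := by
  by_contra hno
  push Not at hno
  obtain ⟨g₀, hg₀, hg₀'⟩ := hno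
  set D := R ⊓ centralizer ({x, h} : Set (MulAut V)) with hD
  have hlt : D < R := lt_of_le_of_ne inf_le_left fun e => by
    have h1 := mem_centralizer_iff.1 (mem_inf.1 (e ▸ hg₀)).2
    exact hg₀' (h1 x (Or.inl rfl)).symm (h1 h (Or.inr rfl)).symm
  obtain ⟨n, hnN, hnD⟩ := SetLike.exists_of_lt (Cores.Normalizer.lt_normalizer_inf hR.isNilpotent hlt)
  obtain ⟨hn', hnR⟩ := mem_inf.1 hnN
  obtain ⟨s, hs⟩ := hR ⟨n, hnR⟩
  replace hs : n ^ r ^ s = 1 := congrArg Subtype.val hs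
  obtain ⟨h1, h2⟩ := X.commute_of_normalizes hk hW hs (fun i j => by
    have hm : pw x i * pw h j ∈ D := mem_inf.2 ⟨mul_mem (pw_mem hx i) (pw_mem hh j),
      mem_centralizer_iff.2 (by
        rintro y (rfl | rfl)
        · exact ((cr (Commute.refl y) i).mul_right (cr X.comm.symm j)).eq
        · exact ((cr X.comm i).mul_right (cr (Commute.refl y) j)).eq)⟩
    obtain ⟨hR', hc'⟩ := mem_inf.1 ((mem_normalizer_iff.1 hn' _).1 hm)
    exact X.mem_A hk hW (hRM hR') (mem_centralizer_iff.1 hc' h (Or.inr rfl)).symm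
      (mem_centralizer_iff.1 hc' x (Or.inl rfl)).symm
      (by rw [conj_pow, (commute_pw X.comm.symm i j).mul_pow, pw_pow X.pow, pw_pow X.base.h_pow,
        one_mul, mul_one, mul_inv_cancel]))
  exact hnD (mem_inf.2 ⟨hnR, mem_centralizer_iff.2 (by
    rintro y (rfl | rfl)
    exacts [h1.eq.symm, h2.eq.symm])⟩)

omit hk hW

/-- The coordinates of `⟨h, x⟩`. -/
def iota (v : Fin 2 → ZMod r) : M :=
  ⟨pw h (v 0) * pw x (v 1), mul_mem (pw_mem X.base.mem _) (pw_mem X.mem _)⟩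

theorem iota_add (v w : Fin 2 → ZMod r) : X.iota (v + w) = X.iota v * X.iota w := by
  refine Subtype.ext ?_
  show pw h (v 0 + w 0) * pw x (v 1 + w 1) = pw h (v 0) * pw x (v 1) * (pw h (w 0) * pw x (w 1))
  rw [pw_add X.base.h_pow, pw_add X.pow]
  exact (commute_pw X.comm (w 0) (v 1)).mul_mul_mul_comm _ _

theorem iota_zero : X.iota 0 = 1 := Subtype.ext (by simp [iota, pw_zero])

theorem iota_pow (v : Fin 2 → ZMod r) (n : ℕ) : X.iota v ^ n = X.iota ((n : ZMod r) • v) := by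
  induction n with
  | zero => simp [X.iota_zero]
  | succ n ih => rw [pow_succ, ih, ← X.iota_add, Nat.cast_succ, add_smul, one_smul]

theorem tau_iota (v : Fin 2 → ZMod r) : X.base.tau (X.iota v) = X.iota ![v 0, -v 1] := by
  refine Subtype.ext ?_
  show t * (pw h (v 0) * pw x (v 1)) * t = pw h (v 0) * pw x (-v 1)
  have hti : t⁻¹ = t := inv_eq_of_mul_eq_one_right X.base.sq_t
  have e1 : t * pw x (v 1) * t⁻¹ = pw x (-v 1) := by
    rw [pw, ← conj_pow, hti, X.inv, inv_pow, pw_neg X.pow]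
    rfl
  rw [hti] at e1
  rw [← e1, ← mul_assoc, (cr X.base.comm (v 0)).eq]
  group

theorem iota_inj {v w : Fin 2 → ZMod r}
    (e : (QuotientGroup.mk (X.iota v) : M ⧸ Cfsg.pPrimeCore r M) = QuotientGroup.mk (X.iota w)) :
    v = w := by
  have hinj : ∀ u : Fin 2 → ZMod r, X.iota u ∈ Cfsg.pPrimeCore r M → u = 0 := by
    intro u hu
    have h1 : X.iota u ^ r = 1 := by rw [X.iota_pow, ZMod.natCast_self, zero_smul, X.iota_zero]
    have hp : IsPGroup r ↥(zpowers ((X.iota u : M) : MulAut V)) := by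
      obtain ⟨l, -, hl⟩ := (Nat.dvd_prime_pow (Fact.out : r.Prime)).1
        (show orderOf ((X.iota u : M) : MulAut V) ∣ r ^ 1 from orderOf_dvd_of_pow_eq_one
          (by rw [pow_one]; exact congrArg Subtype.val h1))
      exact IsPGroup.of_card (n := l) (by rw [Nat.card_zpowers, hl])
    have h2 : X.iota u = 1 := X.base.eq_one_of_core hp (mem_zpowers _) hu
    have h3 : pw h (u 0) * pw x (u 1) = 1 := congrArg Subtype.val h2
    have h4 : pw h (u 0) * pw x (-u 1) = 1 := by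
      have := congrArg Subtype.val (congrArg X.base.tau h2)
      rwa [X.tau_iota, map_one] at this
    have h5 : pw x (u 1) = pw x (-u 1) := mul_left_cancel (h3.trans h4.symm)
    have h7 : pw x (u 1 + u 1) = 1 := by
      rw [pw_add X.pow]; nth_rewrite 1 [h5]; rw [← pw_add X.pow, neg_add_cancel, pw_zero]
    have hz : ∀ (a : MulAut V), a ^ r = 1 → a ≠ 1 → ∀ z : ZMod r, pw a z = 1 → z = 0 := by
      intro a ha ha1 z hz
      by_contra hz0
      refine ha1 ?_
      rw [← pw_one ha, ← mul_inv_cancel₀ hz0, pw_mul ha, hz, pw, one_pow]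
    have h8 : u 1 = 0 := by
      have := hz x X.pow X.ne _ h7
      rw [← two_mul] at this
      exact (mul_eq_zero.1 this).resolve_left X.base.two_ne
    rw [h8, pw_zero, mul_one] at h3
    have h9 := hz h X.base.h_pow (fun e => by
      have := X.base.ord; rw [e, orderOf_one] at this; have := X.base.five; omega) _ h3
    funext i
    fin_cases i
    exacts [h9, h8]
  rw [QuotientGroup.eq] at e
  have h0 : X.iota (-v) = (X.iota v)⁻¹ :=
    eq_inv_of_mul_eq_one_left (by rw [← X.iota_add, neg_add_cancel, X.iota_zero])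
  rw [← h0, ← X.iota_add] at e
  have := hinj _ e
  rwa [neg_add_eq_zero] at this

/-- The action on `⟨h, x⟩` modulo `O_{r'}`. -/
def Mat (m : M) (P : Matrix (Fin 2) (Fin 2) (ZMod r)) : Prop :=
  ∀ v, (QuotientGroup.mk (m * X.iota v * m⁻¹) : M ⧸ Cfsg.pPrimeCore r M) =
    QuotientGroup.mk (X.iota (P.mulVec v))

theorem mat_mul {a b : M} {P Q : Matrix (Fin 2) (Fin 2) (ZMod r)} (ha : X.Mat a P)
    (hb : X.Mat b Q) : X.Mat (a * b) (P * Q) := fun v => by
  rw [show a * b * X.iota v * (a * b)⁻¹ = a * (b * X.iota v * b⁻¹) * a⁻¹ by group,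
    QuotientGroup.mk_mul, QuotientGroup.mk_mul, hb v, ← QuotientGroup.mk_mul,
    ← QuotientGroup.mk_mul, ha, mulVec_mulVec]

theorem mat_unique {a : M} {P Q : Matrix (Fin 2) (Fin 2) (ZMod r)} (hP : X.Mat a P)
    (hQ : X.Mat a Q) : P = Q := by
  have h1 : ∀ v, P.mulVec v = Q.mulVec v := fun v => X.iota_inj ((hP v).symm.trans (hQ v))
  exact Matrix.ext_iff_mulVec.2 h1

theorem mat_one : X.Mat 1 1 := fun v => by rw [one_mul, inv_one, mul_one, one_mulVec]

theorem mat_tau {a : M} {P : Matrix (Fin 2) (Fin 2) (ZMod r)} (hP : X.Mat a P) :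
    X.Mat (X.base.tau a) (diagonal ![1, -1] * P * diagonal ![1, -1]) := fun v => by
  have hD : ∀ w : Fin 2 → ZMod r, (diagonal ![1, -1] : Matrix (Fin 2) (Fin 2) (ZMod r)).mulVec w =
      ![w 0, -w 1] := fun w => by
    funext i; fin_cases i <;> simp [mulVec_diagonal]
  have e := X.base.tau_congr (hP ((diagonal ![1, -1] : Matrix _ _ (ZMod r)).mulVec v))
  rw [map_mul, map_mul, map_inv, X.tau_iota, X.tau_iota, ← hD, ← hD, mulVec_mulVec,
    mulVec_mulVec, mulVec_mulVec] at e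
  have hDD : (diagonal ![1, -1] : Matrix (Fin 2) (Fin 2) (ZMod r)) * diagonal ![1, -1] = 1 := by
    rw [diagonal_mul_diagonal, ← diagonal_one]
    congr 1
    funext i; fin_cases i <;> simp
  rw [hDD, one_mulVec] at e
  simpa only [mul_assoc] using e

include hk hW

/-- `⟨h, x⟩` is normal modulo `O_{r'}(M)`. -/
theorem exists_mat {R : Subgroup (MulAut V)} (hRM : R ≤ M) (hR : IsPGroup r R) (hh : h ∈ R)
    (hx : x ∈ R) (hB : Cfsg.pCore r (M ⧸ Cfsg.pPrimeCore r M) ≤
      (R.subgroupOf M).map (QuotientGroup.mk' (Cfsg.pPrimeCore r M))) (m : M) :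
    ∃ P, X.Mat m P := by
  have hc := X.commute_R hk hW hRM hR hh hx
  have hiB : ∀ v, (QuotientGroup.mk (X.iota v) : M ⧸ Cfsg.pPrimeCore r M) ∈
      Cfsg.pCore r (M ⧸ Cfsg.pPrimeCore r M) := by
    intro v
    refine X.base.centralizer_core_le (mem_centralizer_iff.2 fun b hb => ?_)
    obtain ⟨ρ, hρ, rfl⟩ := hB hb
    rw [QuotientGroup.mk'_apply, ← QuotientGroup.mk_mul, ← QuotientGroup.mk_mul]
    refine congrArg _ (Subtype.ext ?_)
    obtain ⟨h1, h2⟩ := hc _ (mem_subgroupOf.1 hρ)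
    exact ((cr h2 (v 0)).mul_right (cr h1 (v 1))).eq
  have hcol : ∀ v, ∃ w, (QuotientGroup.mk (m * X.iota v * m⁻¹) : M ⧸ Cfsg.pPrimeCore r M) =
      QuotientGroup.mk (X.iota w) := by
    intro v
    haveI : (Cfsg.pCore r (M ⧸ Cfsg.pPrimeCore r M)).Normal := Cfsg.pCore_normal r _
    have hm := (inferInstance : (Cfsg.pCore r (M ⧸ Cfsg.pPrimeCore r M)).Normal).conj_mem _ (hiB v)
      (QuotientGroup.mk m)
    rw [← QuotientGroup.mk_inv, ← QuotientGroup.mk_mul, ← QuotientGroup.mk_mul] at hm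
    obtain ⟨ρ, hρ, e⟩ := hB hm
    rw [QuotientGroup.mk'_apply] at e
    have hρr : ρ ^ r = 1 := by
      refine X.base.eq_one_of_core hR (pow_mem hρ r) ((QuotientGroup.eq_one_iff _).1 ?_)
      rw [QuotientGroup.mk_pow, e, ← QuotientGroup.mk_pow, conj_pow, X.iota_pow, ZMod.natCast_self,
        zero_smul, X.iota_zero, mul_one, mul_inv_cancel]
      rfl
    obtain ⟨h1, h2⟩ := hc _ (mem_subgroupOf.1 hρ)
    obtain ⟨i, j, hij⟩ := X.mem_A hk hW ρ.2 h2 h1 (congrArg Subtype.val hρr)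
    refine ⟨![j, i], e.symm.trans (congrArg _ (Subtype.ext ?_))⟩
    rw [hij, (commute_pw X.comm.symm i j).eq]
    rfl
  choose w hw using hcol
  refine ⟨of fun i j => w (Pi.single j 1) i, fun v => ?_⟩
  have hsplit : v = (v 0) • Pi.single (0 : Fin 2) (1 : ZMod r) +
      (v 1) • Pi.single (1 : Fin 2) (1 : ZMod r) := by
    funext i; fin_cases i <;> simp
  have hmv : (of fun i j => w (Pi.single j 1) i).mulVec v =
      (v 0) • w (Pi.single 0 1) + (v 1) • w (Pi.single 1 1) := by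
    funext i; simp [mulVec, dotProduct, Fin.sum_univ_two, mul_comm]
  have hp : ∀ (z : ZMod r) (u : Fin 2 → ZMod r), X.iota (z • u) = X.iota u ^ z.val := fun z u => by
    rw [X.iota_pow, ZMod.natCast_zmod_val]
  rw [hmv, X.iota_add, hp, hp]
  conv_rhs => rw [QuotientGroup.mk_mul, QuotientGroup.mk_pow, QuotientGroup.mk_pow, ← hw, ← hw]
  rw [ ← QuotientGroup.mk_pow, ← QuotientGroup.mk_pow, ← QuotientGroup.mk_mul, conj_pow,
    conj_pow, ← hp, ← hp]
  refine congrArg _ ?_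
  conv_lhs => rw [hsplit, X.iota_add]
  group

/-- An element of `⟨h, x⟩` congruent to an element of order `r` with fixed points has fixed
points. -/
theorem exists_fixed_of_congr {z : M} {a : Fin 2 → ZMod r} (hz : z ^ r = 1) (hz1 : z ≠ 1)
    (ha : a ≠ 0) {v : V} (hv : v ∈ fx (z : MulAut V)) (hv1 : v ≠ 1)
    (e : (QuotientGroup.mk z : M ⧸ Cfsg.pPrimeCore r M) = QuotientGroup.mk (X.iota a)) :
    ∃ u ≠ (1 : V), u ∈ fx ((X.iota a : M) : MulAut V) := by
  have hiar : X.iota a ^ r = 1 := by rw [X.iota_pow, ZMod.natCast_self, zero_smul, X.iota_zero]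
  have hia : X.iota a ≠ 1 := fun h1 => ha (X.iota_inj (by rw [h1, X.iota_zero]))
  have hzo : orderOf z = r := orderOf_eq_prime hz hz1
  have hio : orderOf (X.iota a) = r := orderOf_eq_prime hiar hia
  obtain ⟨o, -, hconj⟩ := Coprime.exists_conj_eq_of_coprime (A := zpowers (X.iota a))
    (B := zpowers z) (K := Cfsg.pPrimeCore r M)
    (by rw [normalizer_eq_top_iff.2 inferInstance]; exact le_top)
    (by rw [Nat.card_zpowers, hio]
        exact (Fact.out : r.Prime).coprime_iff_not_dvd.2 (Cores.not_dvd_card_pPrimeCore r))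
    (Or.inl (Coprime.isSolvable_zpowers _))
    (by
      rw [zpowers_le, show z = X.iota a * ((X.iota a)⁻¹ * z) by rw [mul_inv_cancel_left]]
      exact mul_mem_sup (mem_zpowers _) (QuotientGroup.eq.1 e.symm))
    (by rw [Nat.card_zpowers, Nat.card_zpowers, hzo, hio])
  have hmem : o * X.iota a * o⁻¹ ∈ zpowers z := by
    rw [← hconj, Coprime.mem_conj_smul, show o⁻¹ * (o * X.iota a * o⁻¹) * o = X.iota a by group]
    exact mem_zpowers _
  obtain ⟨q, hq⟩ := mem_zpowers_iff.1 hmem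
  refine ⟨(o : MulAut V)⁻¹ v, fun e1 => hv1 ((map_eq_one_iff _ (MulEquiv.injective _)).1 e1), ?_⟩
  have hq' : (z : MulAut V) ^ q = o * (X.iota a : MulAut V) * (o : MulAut V)⁻¹ := by
    rw [← Subgroup.coe_zpow, hq]; rfl
  have h2 := mem_fx_zpow hv q
  rw [hq', mem_fx, MulAut.mul_apply, MulAut.mul_apply] at h2
  show (X.iota a : MulAut V) ((o : MulAut V)⁻¹ v) = _
  refine (o : MulAut V).injective ?_
  exact h2.trans ((o : MulAut V).apply_symm_apply v).symm

end Inv

set_option maxHeartbeats 1600000 in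
include H in
/-- No fixed element of `⟨m t(m)⁻¹⟩` acts non-trivially on `⟨h⟩`. -/
theorem false_of_gen {g : MulAut V}
    (hg : g ∈ closure {i : MulAut V | ∃ m ∈ M, i = m * (t * m⁻¹ * t)})
    (hgt : Commute t g) {e : ℕ} (hge : g * h * g⁻¹ = h ^ e) (hne : ¬ Commute g h) : False := by
  obtain ⟨R, hRM, hR, hh, htR, hB⟩ := H.exists_R
  have hti : t⁻¹ = t := inv_eq_of_mul_eq_one_right H.sq_t
  have hgen : ∀ m : M, ((m * (H.tau m)⁻¹ : M) : MulAut V) = m * (t * (m : MulAut V)⁻¹ * t) :=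
    fun m => by
      show (m : MulAut V) * (t * m * t)⁻¹ = _
      simp only [_root_.mul_inv_rev, hti]
      group
  have hlift : ∀ K : Subgroup M, (∀ m : M, m * (H.tau m)⁻¹ ∈ K) → ∃ g' : M,
      g' ∈ K ∧ (g' : MulAut V) = g := by
    intro K hK
    have hle : closure {i : MulAut V | ∃ m ∈ M, i = m * (t * m⁻¹ * t)} ≤ K.map M.subtype :=
      (closure_le _).2 (by
        rintro _ ⟨m, hm, rfl⟩
        exact ⟨_, hK ⟨m, hm⟩, hgen ⟨m, hm⟩⟩)
    exact hle hg
  rcases H.exists_inv hRM hR hh htR with hfix | ⟨x, hxR, X⟩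
  · obtain ⟨g', hg', rfl⟩ := hlift _ (H.gen_mem_core hR hB hfix)
    have hc : g' * ⟨h, H.mem⟩ * g'⁻¹ * (⟨h, H.mem⟩ : M)⁻¹ ∈ Cfsg.pPrimeCore r M := by
      rw [show g' * ⟨h, H.mem⟩ * g'⁻¹ * (⟨h, H.mem⟩ : M)⁻¹ =
        g' * (⟨h, H.mem⟩ * g'⁻¹ * (⟨h, H.mem⟩ : M)⁻¹) by group]
      exact mul_mem hg' ((inferInstance : (Cfsg.pPrimeCore r M).Normal).conj_mem _ (inv_mem hg') _)
    have h1 := H.eq_one_of_core hR (R := R) (m := g' * ⟨h, H.mem⟩ * g'⁻¹ * (⟨h, H.mem⟩ : M)⁻¹)
      (by show (g' : MulAut V) * h * (g' : MulAut V)⁻¹ * h⁻¹ ∈ R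
          rw [hge]; exact mul_mem (pow_mem hh e) (inv_mem hh)) hc
    exact hne (mul_inv_eq_iff_eq_mul.1 (mul_inv_eq_one.1 (congrArg Subtype.val h1)))
  obtain ⟨k, hk, hW⟩ := X.exists_k
  have hmat := X.exists_mat hk hW hRM hR hh hxR hB
  choose P hP using hmat
  have hPmul : ∀ a b : M, P (a * b) = P a * P b := fun a b =>
    X.mat_unique (hP _) (X.mat_mul (hP a) (hP b))
  have hP1 : P 1 = 1 := X.mat_unique (hP 1) X.mat_one
  have hPt : ∀ a : M, P (H.tau a) = diagonal ![1, -1] * P a * diagonal ![1, -1] := fun a =>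
    X.mat_unique (hP _) (X.mat_tau (hP a))
  let φ : M →* ZMod r :=
    { toFun := fun a => (P a).det
      map_one' := by rw [hP1, det_one]
      map_mul' := fun a b => by rw [hPmul, det_mul] }
  obtain ⟨g', hg', rfl⟩ := hlift φ.ker fun m => by
    rw [MonoidHom.mem_ker]
    have h1 : φ (H.tau m) = φ m := by
      show (P (H.tau m)).det = (P m).det
      rw [hPt, det_mul, det_mul, det_diagonal, Fin.prod_univ_two]
      simp
    calc φ (m * (H.tau m)⁻¹) = φ m * φ (H.tau m)⁻¹ := map_mul _ _ _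
      _ = φ (H.tau m) * φ (H.tau m)⁻¹ := by rw [h1]
      _ = 1 := by rw [← map_mul, mul_inv_cancel, map_one]
  have hdet : (P g').det = 1 := hg'
  have htg : H.tau g' = g' := Subtype.ext (by
    rw [H.coe_tau, hgt.eq, mul_assoc, H.sq_t, mul_one])
  have hQ := hPt g'
  rw [htg] at hQ
  have hv0 : (QuotientGroup.mk (g' * X.iota ![1, 0] * g'⁻¹) : M ⧸ Cfsg.pPrimeCore r M) =
      QuotientGroup.mk (X.iota ![(e : ZMod r), 0]) := by
    refine congrArg _ (Subtype.ext ?_)
    show (g' : MulAut V) * (pw h (1 : ZMod r) * pw x (0 : ZMod r)) * (g' : MulAut V)⁻¹ =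
      pw h (e : ZMod r) * pw x (0 : ZMod r)
    rw [pw_zero, mul_one, mul_one, pw_one H.h_pow, pw_natCast H.h_pow, hge]
  have hcol := X.iota_inj ((hP g' ![1, 0]).symm.trans hv0)
  have e00 : P g' 0 0 = (e : ZMod r) := by simpa [mulVec, dotProduct] using congrFun hcol 0
  have e10 : P g' 1 0 = 0 := by simpa [mulVec, dotProduct] using congrFun hcol 1
  have h2 := H.two_ne
  have e01 : P g' 0 1 = 0 := by
    have := congrFun (congrFun hQ 0) 1
    simp [diagonal, Matrix.mul_apply] at this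
    exact (mul_eq_zero.1 (show (2 : ZMod r) * P g' 0 1 = 0 by linear_combination this)).resolve_left h2
  set f := P g' 1 1 with hf
  rw [det_fin_two, e00, e10, e01, mul_zero, sub_zero, ← hf] at hdet
  have hf0 : f ≠ 0 := fun h0 => by rw [h0, mul_zero] at hdet; exact zero_ne_one hdet
  obtain ⟨v, hv, hv1⟩ : ∃ v ∈ fx (X.aa k), v ≠ 1 := by
    by_contra hno
    push Not at hno
    exact hW ((eq_bot_iff_forall _).2 hno)
  set z := g' * X.iota ![k, 1] * g'⁻¹ with hz
  have hzv : (g' : MulAut V) v ∈ fx (z : MulAut V) := by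
    show ((g' : MulAut V) * (pw h k * pw x (1 : ZMod r)) * (g' : MulAut V)⁻¹) ((g' : MulAut V) v) = _
    rw [pw_one X.pow, (cl X.comm k).eq]
    show (g' : MulAut V) ((X.aa k) ((g' : MulAut V)⁻¹ ((g' : MulAut V) v))) = _
    rw [show (g' : MulAut V)⁻¹ ((g' : MulAut V) v) = v from (g' : MulAut V).symm_apply_apply v,
      mem_fx.1 hv]
  have hzc : (QuotientGroup.mk z : M ⧸ Cfsg.pPrimeCore r M) =
      QuotientGroup.mk (X.iota ![(e : ZMod r) * k, f]) := by
    rw [hz, hP g' ![k, 1]]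
    refine congrArg (fun w => (QuotientGroup.mk (X.iota w) : M ⧸ Cfsg.pPrimeCore r M)) ?_
    funext i
    fin_cases i <;> simp [mulVec, dotProduct, Fin.sum_univ_two, e00, e01, e10, ← hf]
  obtain ⟨u, hu1, hu⟩ := X.exists_fixed_of_congr hk hW
    (by rw [hz, conj_pow, X.iota_pow, ZMod.natCast_self, zero_smul, X.iota_zero, mul_one,
      mul_inv_cancel])
    (fun h1 => by
      have := X.iota_inj (v := ![k, 1]) (w := 0)
        (by rw [conj_eq_one_iff.1 h1, X.iota_zero])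
      simpa using congrFun this 1)
    (fun h1 => hf0 (by simpa using congrFun h1 1)) hzv
    (fun e1 => hv1 ((map_eq_one_iff _ (MulEquiv.injective _)).1 e1)) hzc
  have hiu : u ∈ fx (pw x f * pw h ((e : ZMod r) * k)) := by
    rw [(commute_pw X.comm.symm f ((e : ZMod r) * k)).eq]
    exact hu
  have hes : (e : ZMod r) ≠ 0 := fun h0 => by rw [h0, zero_mul] at hdet; exact zero_ne_one hdet
  have he4 : ((e : ZMod r)) ^ 4 = 1 := by
    rcases X.cases_fx hk hW hu1 hiu with ⟨hf1, -⟩ | ⟨-, h0 | h0 | h0⟩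
    · exact absurd hf1 hf0
    · exact absurd h0 (mul_ne_zero hes hk)
    · have : (e : ZMod r) = f := mul_right_cancel₀ hk (by linear_combination h0)
      rw [← this] at hdet
      linear_combination ((e : ZMod r) ^ 2 + 1) * hdet
    · have : (e : ZMod r) = -f := mul_right_cancel₀ hk (by linear_combination h0)
      rw [show f = -(e : ZMod r) by rw [this, neg_neg]] at hdet
      linear_combination (1 - (e : ZMod r) ^ 2) * hdet
  obtain ⟨n, hn⟩ : Odd (orderOf g') := H.odd.of_dvd_nat (orderOf_dvd_natCard g')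
  have hpw : ∀ j : ℕ, (g' : MulAut V) ^ j * h * ((g' : MulAut V) ^ j)⁻¹ = h ^ e ^ j := by
    intro j
    induction j with
    | zero => simp
    | succ j ih =>
      calc (g' : MulAut V) ^ (j + 1) * h * ((g' : MulAut V) ^ (j + 1))⁻¹
          = (g' : MulAut V) ^ j * ((g' : MulAut V) * h * (g' : MulAut V)⁻¹) *
              ((g' : MulAut V) ^ j)⁻¹ := by rw [pow_succ]; group
        _ = ((g' : MulAut V) ^ j * h * ((g' : MulAut V) ^ j)⁻¹) ^ e := by rw [hge, conj_pow]
        _ = h ^ e ^ (j + 1) := by rw [ih, ← pow_mul, pow_succ]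
  have h5 := hpw (2 * n + 1)
  rw [← Subgroup.coe_pow, ← hn, pow_orderOf_eq_one, Subgroup.coe_one, one_mul, inv_one,
    mul_one] at h5
  have h6 : ((e : ZMod r)) ^ (2 * n + 1) = 1 := by
    have h7 : h ^ e ^ (orderOf g') = h ^ 1 := by rw [← h5, pow_one]
    rw [pow_eq_pow_iff_modEq, H.ord, ← ZMod.natCast_eq_natCast_iff, hn, Nat.cast_pow,
      Nat.cast_one] at h7
    exact h7
  have he1 : (e : ZMod r) = 1 := by
    refine orderOf_eq_one_iff.1 (Nat.eq_one_of_dvd_coprimes (a := 4) (b := 2 * n + 1) ?_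
      (orderOf_dvd_of_pow_eq_one he4) (orderOf_dvd_of_pow_eq_one h6))
    rw [show (4 : ℕ) = 2 ^ 2 from rfl]
    exact (Nat.coprime_two_left.2 ⟨n, rfl⟩).pow_left 2
  refine hne (mul_inv_eq_iff_eq_mul.1 ?_)
  rw [hge, ← pw_natCast H.h_pow, he1, pw_one H.h_pow]

end Cfsg.Agent.Lib.Walter.NoField.Three
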