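import Cfsg.Agent.Lib.Walter.NoField.Three.Parabolic
import Cfsg.Agent.Lib.Walter.NoField.Three.Linear
import Cfsg.Agent.Lib.Walter.NoField.InterfaceV3
import Cfsg.Agent.Lib.Fusion.Thompson
import Cfsg.Agent.Lib.Linear.Order

/-!
# Section Z, `PropThree`

`N(Z(J(P))) = L⟨t⟩`; the subgroup `gens = ⟨m t(m)⁻¹ : m ∈ L⟩` meets `C(t)` inside `B`
(`mem_B_of_gens`), so `L` maps onto the field part and, by Glauberman, so does `G`.

Owner: helper37.
-/

set_option autoImplicit false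
set_option linter.style.haveILetI false
set_option linter.unusedSectionVars false

universe u

namespace Cfsg.Agent.Lib.Walter.NoField.Cent.Chart

open Subgroup Cfsg.Agent.Lib.AutPSL
open scoped MatrixGroups

variable {G : Type u} [Group G] [Finite G] {S : Sylow 2 G} {t : G} {E E₀ : Subgroup G}
  {F : Type} [Field F] [Fintype F] (c : Chart S t E E₀ F)

/-- `⟨m t(m)⁻¹ : m ∈ L⟩`. -/
def gens (_ : Chart S t E E₀ F) (L : Subgroup G) : Subgroup G :=
  closure {i | ∃ m ∈ L, i = m * (t * m⁻¹ * t)}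

include c

theorem conj_t {L : Subgroup G} (htL : t ∈ normalizer (L : Set G)) {g : G} (hg : g ∈ L) :
    t * g * t ∈ L := by
  have := (mem_normalizer_iff.1 htL g).1 hg
  rwa [inv_eq_of_mul_eq_one_right c.sq_t] at this

theorem conj_t_mul (g h : G) : t * (g * h) * t = t * g * t * (t * h * t) := by
  calc t * (g * h) * t = t * g * 1 * h * t := by group
    _ = t * g * (t * t) * h * t := by rw [c.sq_t]
    _ = _ := by group

theorem conj_t_t (g : G) : t * (t * g * t) * t = g := by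
  calc t * (t * g * t) * t = (t * t) * g * (t * t) := by group
    _ = g := by rw [c.sq_t, one_mul, mul_one]

theorem conj_t_inv (g : G) : t * g⁻¹ * t = (t * g * t)⁻¹ := by
  simp only [mul_inv_rev, inv_eq_of_mul_eq_one_right c.sq_t, mul_assoc]

theorem gens_le {L : Subgroup G} (htL : t ∈ normalizer (L : Set G)) : c.gens L ≤ L :=
  (closure_le _).2 (by rintro _ ⟨m, hm, rfl⟩; exact mul_mem hm (c.conj_t htL (inv_mem hm)))

theorem conj_mem_gens {L : Subgroup G} {g x : G} (hg : g ∈ L) (hx : x ∈ c.gens L) :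
    g * x * g⁻¹ ∈ c.gens L := by
  induction hx using closure_induction with
  | mem y hy =>
    obtain ⟨m, hm, rfl⟩ := hy
    have e : g * (m * (t * m⁻¹ * t)) * g⁻¹ =
        g * m * (t * (g * m)⁻¹ * t) * (g * (t * g⁻¹ * t))⁻¹ := by
      simp only [c.conj_t_inv, c.conj_t_mul, mul_inv_rev]
      group
    rw [e]
    exact mul_mem (subset_closure ⟨g * m, mul_mem hg hm, rfl⟩)
      (inv_mem (subset_closure ⟨g, hg, rfl⟩))
  | one => rw [mul_one, mul_inv_cancel]; exact one_mem _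
  | mul a b _ _ ha hb =>
    rw [show g * (a * b) * g⁻¹ = g * a * g⁻¹ * (g * b * g⁻¹) by group]
    exact mul_mem ha hb
  | inv a _ ha =>
    rw [show g * a⁻¹ * g⁻¹ = (g * a * g⁻¹)⁻¹ by group]
    exact inv_mem ha

theorem t_mem_gens {L : Subgroup G} {x : G} (hx : x ∈ c.gens L) : t * x * t ∈ c.gens L := by
  induction hx using closure_induction with
  | mem y hy =>
    obtain ⟨m, hm, rfl⟩ := hy
    have e : t * (m * (t * m⁻¹ * t)) * t = (m * (t * m⁻¹ * t))⁻¹ := by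
      rw [c.conj_t_mul, c.conj_t_t, c.conj_t_inv, mul_inv_rev, inv_inv]
    rw [e]
    exact inv_mem (subset_closure ⟨m, hm, rfl⟩)
  | one => rw [mul_one, c.sq_t]; exact one_mem _
  | mul a b _ _ ha hb => rw [c.conj_t_mul]; exact mul_mem ha hb
  | inv a _ ha => rw [c.conj_t_inv]; exact inv_mem ha

/-- A fixed element in a coset. -/
theorem exists_fixed_coset {L K : Subgroup G} (hL : Odd (Nat.card L)) (hK : K ≤ L) {m : G}
    (hm : m⁻¹ * (t * m * t) ∈ K) : ∃ s ∈ K, (m * s) * t = t * (m * s) := by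
  set e := m⁻¹ * (t * m * t) with he
  obtain ⟨k, hk⟩ : Odd (orderOf e) := hL.of_dvd_nat (Subgroup.orderOf_dvd_natCard L (hK hm))
  refine ⟨e ^ (k + 1), pow_mem hm _, ?_⟩
  set s := e ^ (k + 1) with hs
  have hss : s * s = e := by
    rw [hs, ← pow_add, show k + 1 + (k + 1) = 2 * k + 1 + 1 by omega, pow_succ, ← hk,
      pow_orderOf_eq_one, one_mul]
  have hte : t * e * t = e⁻¹ := by
    rw [he]
    calc t * (m⁻¹ * (t * m * t)) * t = t * m⁻¹ * t * m * (t * t) := by group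
      _ = t⁻¹ * m⁻¹ * t⁻¹ * m := by rw [c.sq_t, mul_one, inv_eq_of_mul_eq_one_right c.sq_t]
      _ = _ := by group
  have hts : t * s * t = s⁻¹ := by
    have hti : t⁻¹ = t := inv_eq_of_mul_eq_one_right c.sq_t
    have h1 : t * e * t⁻¹ = e⁻¹ := by rw [hti]; exact hte
    have h2 : t * s * t⁻¹ = s⁻¹ := by rw [hs, ← conj_pow, h1, inv_pow]
    rwa [hti] at h2
  have h1 : t * (m * s) * t = m * s := by
    rw [c.conj_t_mul, hts, show t * m * t = m * e by rw [he, mul_inv_cancel_left], ← hss]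
    group
  calc m * s * t = t * (m * s) * t * t := by rw [h1]
    _ = t * (m * s) := by rw [mul_assoc, c.sq_t, mul_one]

variable [CharP F 3] {r : ℕ} {c₀ : Fˣ} (Γ : c.Gen r c₀)
include Γ

theorem hh_moves : c.hh c₀ * c.uu 1 * (c.hh c₀)⁻¹ ≠ c.uu 1 := by
  rw [c.hh_conj_uu, mul_inv_cancel_right, mul_one]
  intro e
  exact Γ.sq_ne_one (Units.ext (by simpa using c.uu_injective e))

theorem no_inverted_pgroup {W : Subgroup G} (hW : IsPGroup 3 W) {y : Fˣ} (hy : c.hh y ≠ 1) {z : G}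
    (hz : z ∈ W) (hzh : z * c.hh y = c.hh y * z) (h : t * z * t = z⁻¹) : z = 1 := by
  obtain ⟨k, hk⟩ := hW ⟨z, hz⟩
  replace hk : z ^ 3 ^ k = 1 := congrArg Subtype.val hk
  clear hz
  induction k generalizing z with
  | zero => simpa using hk
  | succ k ih =>
    have hti : t⁻¹ = t := inv_eq_of_mul_eq_one_right c.sq_t
    have h1 : t * z ^ 3 * t = (z ^ 3)⁻¹ := by
      have e : t * z * t⁻¹ = z⁻¹ := by rw [hti]; exact h
      rw [show t * z ^ 3 * t = t * z ^ 3 * t⁻¹ by rw [hti], ← conj_pow, e, inv_pow]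
    have h3 : z ^ 3 = 1 := ih ((show Commute z (c.hh y) from hzh).pow_left 3).eq h1
      (by rw [← pow_mul, ← pow_succ']; exact hk)
    exact c.hh_no_inverted hy h3 hzh (by rw [h, inv_mul_cancel])

variable {P : Sylow 3 G} {L : Subgroup G} (hP : c.Good (P : Subgroup G))
  (hLo : Odd (Nat.card L)) (hBF : c.BF ≤ L)
  (hLN : L ≤ normalizer (Cfsg.centerThompsonAOf (P : Subgroup G) : Set G))
  (htL : t ∈ normalizer (L : Set G)) (hLt : ∀ g ∈ L, g * t = t * g → g ∈ c.BF)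
include hP hLo hBF hLN htL hLt

/-- The case in which `t` inverts `Z(J(P))`. -/
theorem mem_B_of_inverted
    (hinv : ∀ z ∈ Cfsg.centerThompsonAOf (P : Subgroup G), z * t = t * z → z = 1)
    {g : G} (hg : g ∈ c.gens L) (hgt : g * t = t * g) : g ∈ c.B := by
  set Z := Cfsg.centerThompsonAOf (P : Subgroup G) with hZ
  have hti : t⁻¹ = t := inv_eq_of_mul_eq_one_right c.sq_t
  have htZ : ∀ z ∈ Z, t * z * t ∈ Z := fun z hz => by
    have := (mem_normalizer_iff.1 (ZJ.normalizer_le_normalizer_centerThompsonA _ hP.2.2.1) z).1 hz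
    rwa [hti] at this
  have hZc : ∀ a ∈ Z, ∀ b ∈ Z, a * b = b * a := fun a ha b hb =>
    (ZJ.centerA_comm ha (inf_le_left (b := centralizer _) hb)).symm
  have hzt : ∀ z ∈ Z, t * z * t = z⁻¹ := by
    intro z hz
    refine eq_inv_of_mul_eq_one_left (hinv _ (mul_mem (htZ z hz) hz) ?_)
    have e : t * (t * z * t * z) * t = t * z * t * z := by
      rw [c.conj_t_mul, c.conj_t_t]; exact hZc z hz _ (htZ z hz)
    calc t * z * t * z * t = t * (t * (t * z * t * z) * t) := by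
          rw [← mul_assoc, ← mul_assoc, c.sq_t, one_mul]
      _ = t * (t * z * t * z) := by rw [e]
  have hgc : ∀ x ∈ c.gens L, x ∈ centralizer (Z : Set G) := by
    intro x hx
    refine (closure_le _).2 ?_ hx
    rintro _ ⟨m, hm, rfl⟩
    refine mem_centralizer_iff.2 fun z hz => ?_
    have hmz : m⁻¹ * z * m ∈ Z := by
      have := (mem_normalizer_iff.1 (hLN (inv_mem hm)) z).1 hz
      rwa [inv_inv] at this
    have h1 : t * m⁻¹ * t * z * (t * m * t) = m⁻¹ * z * m := by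
      have e := hzt _ hz
      have e' := hzt _ hmz
      calc t * m⁻¹ * t * z * (t * m * t) = t * (m⁻¹ * (t * z * t) * m) * t := by group
        _ = t * (m⁻¹ * z * m)⁻¹ * t := by rw [e]; group
        _ = m⁻¹ * z * m := by rw [c.conj_t_inv, e', inv_inv]
    calc z * (m * (t * m⁻¹ * t)) = m * (m⁻¹ * z * m) * (t * m⁻¹ * t) := by group
      _ = m * (t * m⁻¹ * t * z * (t * m * t)) * (t * m⁻¹ * t) := by rw [h1]
      _ = m * (t * m⁻¹ * t) * z * (t * m * (t * t) * m⁻¹ * t) := by group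
      _ = m * (t * m⁻¹ * t) * z := by
        rw [c.sq_t, mul_one, mul_inv_cancel_right, c.sq_t, mul_one]
  obtain ⟨b, ⟨a, y, rfl⟩, x, hx, rfl⟩ := hLt g (c.gens_le htL hg) hgt
  suffices hx1 : x = 1 by rw [hx1, mul_one]; exact ⟨a, y, rfl⟩
  by_contra hx1
  obtain ⟨v, n, hv, -, hne⟩ := Γ.moved hx hx1
  have hh0 : c.hh c₀ ∈ normalizer (Z : Set G) := hP.2.2.2 (c.B_le_BF (c.hh_mem_B c₀))
  set g := c.uu a * c.hh y * x with hgdef
  set κ := g * c.hh c₀ * g⁻¹ * (c.hh c₀)⁻¹ with hκ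
  have hκc : κ ∈ centralizer (Z : Set G) := by
    refine hgc κ ?_
    rw [hκ, show g * c.hh c₀ * g⁻¹ * (c.hh c₀)⁻¹ = g * (c.hh c₀ * g⁻¹ * (c.hh c₀)⁻¹) by group]
    exact mul_mem hg (c.conj_mem_gens (hBF (c.B_le_BF (c.hh_mem_B c₀))) (inv_mem hg))
  obtain ⟨a', ha'⟩ : ∃ a', κ = c.uu a' * c.hh (v * c₀⁻¹) := by
    refine ⟨a + ((v : F) * v * -a), ?_⟩
    rw [hκ, hgdef, show c.uu a * c.hh y * x * c.hh c₀ * (c.uu a * c.hh y * x)⁻¹ * (c.hh c₀)⁻¹ =
      c.uu a * c.hh y * (x * c.hh c₀ * x⁻¹) * (c.hh y)⁻¹ * (c.uu a)⁻¹ * (c.hh c₀)⁻¹ by group, hv,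
      mul_assoc (c.uu a) (c.hh y), ← c.hh_mul, mul_comm y v, c.hh_mul, ← mul_assoc,
      mul_inv_cancel_right, c.uu_inv, mul_assoc (c.uu a) (c.hh v), c.hh_conj_uu, c.uu_add, c.hh_mul,
      c.hh_inv]
    group
  obtain ⟨a'', ha''⟩ := c.U_mul_hh_conj a' (y := v * c₀⁻¹)
    (fun e => hne (Units.ext (by simpa using e)))
  have hu : c.uu a'' ∈ normalizer (Z : Set G) := hLN (hBF (c.U_le_BF ⟨a'', rfl⟩))
  have hhc : ∀ z ∈ Z, z * c.hh (v * c₀⁻¹) = c.hh (v * c₀⁻¹) * z := by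
    intro z hz
    have h2 := mem_centralizer_iff.1 hκc _ ((mem_normalizer_iff.1 hu z).1 hz)
    rw [ha', ha''] at h2
    calc z * c.hh (v * c₀⁻¹) = (c.uu a'')⁻¹ * (c.uu a'' * z * (c.uu a'')⁻¹ *
          (c.uu a'' * c.hh (v * c₀⁻¹) * (c.uu a'')⁻¹)) * c.uu a'' := by group
      _ = c.hh (v * c₀⁻¹) * z := by rw [h2]; group
  refine c.zj_ne_bot Γ hP ((eq_bot_iff_forall _).2 fun z hz => ?_)
  exact c.no_inverted_pgroup Γ (hP.1.to_le (ZJ.centerThompsonAOf_le _))
    (fun e => hne (c.hh_eq_one.1 e)) hz (hhc z hz) (hzt z hz)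

/-- The case `U ≤ Z(J(P))`. -/
theorem mem_B_of_le (hUZ : c.U ≤ Cfsg.centerThompsonAOf (P : Subgroup G))
    {g : G} (hg : g ∈ c.gens L) (hgt : g * t = t * g) : g ∈ c.B := by
  haveI : Fact r.Prime := ⟨Γ.prime⟩
  haveI : Fact (Nat.Prime 3) := ⟨Nat.prime_three⟩
  set Z := Cfsg.centerThompsonAOf (P : Subgroup G) with hZ
  letI : CommGroup ↥Z := { (inferInstance : Group ↥Z) with
    mul_comm := fun a b => Subtype.ext
      (ZJ.centerA_comm a.2 (inf_le_left (b := centralizer _) b.2)).symm }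
  set N : Subgroup G := normalizer (Z : Set G) with hN
  set π := Subgroup.normalizerMonoidHom Z with hπdef
  have hπ : ∀ (n : N) (z : Z), (π n z : G) = n * z * (n : G)⁻¹ := fun _ _ => rfl
  have htN : t ∈ N := ZJ.normalizer_le_normalizer_centerThompsonA _ hP.2.2.1
  have hh0L : c.hh c₀ ∈ L := hBF (c.B_le_BF (c.hh_mem_B c₀))
  set T := π ⟨t, htN⟩ with hT
  set H := π ⟨c.hh c₀, hLN hh0L⟩ with hH
  set M := (L.subgroupOf N).map π with hM
  have hti : t⁻¹ = t := inv_eq_of_mul_eq_one_right c.sq_t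
  have hZp : IsPGroup 3 Z := hP.1.to_le (ZJ.centerThompsonAOf_le _)
  have hZU : ∀ z ∈ Z, z * t = t * z → z ∈ c.U := (c.zj_cases Γ hP).1
  have hcentU : ∀ v : Z, T v = v ↔ (v : G) * t = t * v := fun v => by
    rw [Subtype.ext_iff, hπ, mul_inv_eq_iff_eq_mul, eq_comm]
  have htriv : ∀ a : F, π ⟨c.uu a, hLN (hBF (c.U_le_BF ⟨a, rfl⟩))⟩ = 1 := fun a =>
    MulEquiv.ext fun z => Subtype.ext (by
      rw [hπ, MulAut.one_apply, mul_inv_eq_iff_eq_mul]
      exact congrArg Subtype.val (mul_comm (⟨c.uu a, hUZ ⟨a, rfl⟩⟩ : Z) z))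
  have hker : ∀ {n : G} (hn : n ∈ N), π ⟨n, hn⟩ = 1 → n * t = t * n → n ∈ L → n ∈ c.U := by
    intro n hn h1 hnt hnL
    refine c.mem_U_of_centralizes (hLt n hnL hnt) fun a => mul_inv_eq_iff_eq_mul.1 ?_
    have h2 := congrArg (fun f : MulAut Z => (f ⟨c.uu a, hUZ ⟨a, rfl⟩⟩ : G)) h1
    simpa only [hπ, MulAut.one_apply] using h2
  have hHpow : H ^ r = 1 := by
    rw [hH, ← map_pow]
    convert map_one π using 2
    exact Subtype.ext Γ.hh_pow_r
  have hH1 : H ≠ 1 := fun e => c.hh_moves Γ (by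
    have h2 := congrArg (fun f : MulAut Z => (f ⟨c.uu 1, hUZ ⟨1, rfl⟩⟩ : G)) e
    simpa only [hH, hπ, MulAut.one_apply] using h2)
  have hyp : Three.Hyp M T H r := by
    refine ⟨?_, ?_, ?_, ?_, ?_, Γ.five, orderOf_eq_prime hHpow hH1, ?_, ?_, ?_, ?_⟩
    · exact hLo.of_dvd_nat ((Subgroup.card_map_dvd _ _).trans
        (dvd_of_eq (Nat.card_congr (subgroupOfEquivOfLe hLN).toEquiv)))
    · rw [hT, ← map_mul]
      convert map_one π using 2
      exact Subtype.ext c.sq_t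
    · rintro _ ⟨m, hm, rfl⟩
      refine ⟨⟨t, htN⟩ * m * ⟨t, htN⟩, ?_, by rw [map_mul, map_mul]⟩
      exact mem_subgroupOf.2 (c.conj_t htL (mem_subgroupOf.1 hm))
    · exact mem_map_of_mem _ (mem_subgroupOf.2 hh0L)
    · show T * H = H * T
      rw [hT, hH, ← map_mul, ← map_mul]
      exact congrArg π (Subtype.ext (c.comm_t (c.hh_mem c₀)).symm)
    · obtain ⟨n, hn⟩ := IsPGroup.iff_card.1 hZp
      rw [hn]
      exact ((Nat.coprime_primes Γ.prime Nat.prime_three).2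
        (by have := Γ.five; omega)).pow_right n
    · intro v hv
      have hvh : (v : G) * c.hh c₀ = c.hh c₀ * v := by
        have := congrArg Subtype.val hv
        rw [hπ] at this
        exact (mul_inv_eq_iff_eq_mul.1 this).symm
      have hTv : (T v : G) = t * v * t := by rw [hπ]; show t * v * t⁻¹ = _; rw [hti]
      set z : G := (v : G) * (t * v * t) with hz
      have hzZ : z ∈ Z := mul_mem v.2 (hTv ▸ (T v).2)
      have hzt : z * t = t * z := by
        have e : t * z * t = z := by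
          rw [hz, c.conj_t_mul, c.conj_t_t]
          exact congrArg Subtype.val (mul_comm (⟨t * v * t, hTv ▸ (T v).2⟩ : Z) v)
        calc z * t = t * z * t * t := by rw [e]
          _ = t * z := by rw [mul_assoc, c.sq_t, mul_one]
      have hzh : Commute z (c.hh c₀) := by
        have h1 : Commute t (c.hh c₀) := (c.comm_t (c.hh_mem c₀)).symm
        exact (show Commute (v : G) (c.hh c₀) from hvh).mul_left
          ((h1.mul_left hvh).mul_left h1)
      obtain ⟨a, ha⟩ := hZU z hzZ hzt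
      have hz1 : z = 1 := by
        have h2 : c.hh c₀ * c.uu a * (c.hh c₀)⁻¹ = c.uu a := by
          rw [ha, ← hzh.eq, mul_inv_cancel_right]
        rw [c.hh_conj_uu, mul_inv_cancel_right] at h2
        have h3 := c.uu_injective h2
        have ha0 : a = 0 := by
          by_contra ha0
          exact Γ.sq_ne_one (Units.ext (mul_right_cancel₀ ha0 (by simpa using h3)))
        rw [← ha, ha0, c.uu_zero]
      refine Subtype.ext (c.no_inverted_pgroup Γ hZp Γ.hh_ne_one v.2 hvh ?_)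
      exact eq_inv_of_mul_eq_one_right hz1
    · intro W hWt hWh
      have hW' : W.map Z.subtype ≤ c.U := by
        rintro _ ⟨v, hv, rfl⟩
        exact hZU v v.2 ((hcentU v).1 (hWt v hv))
      rcases Γ.irr hW' (by
        rintro _ ⟨v, hv, rfl⟩
        exact ⟨H v, hWh v hv, hπ _ v⟩) with h | h
      · exact Or.inl ((map_eq_bot_iff_of_injective _ Z.subtype_injective).1 h)
      · refine Or.inr fun v hv => ?_
        obtain ⟨w, hw, hwv⟩ := h (hZU v v.2 ((hcentU v).1 hv))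
        rwa [← Subtype.ext hwv]
    · rintro _ ⟨⟨m, hmN⟩, hm, rfl⟩ hcomm hpow
      replace hm : m ∈ L := mem_subgroupOf.1 hm
      set K := (π.ker.map N.subtype) ⊓ L with hK
      have hmem : m⁻¹ * (t * m * t) ∈ K := by
        refine mem_inf.2 ⟨⟨⟨m, hmN⟩⁻¹ * (⟨t, htN⟩ * ⟨m, hmN⟩ * ⟨t, htN⟩), ?_, rfl⟩,
          mul_mem (inv_mem hm) (c.conj_t htL hm)⟩
        rw [SetLike.mem_coe, MonoidHom.mem_ker, map_mul, map_mul, map_mul, map_inv, ← hT, hcomm.eq,
          mul_assoc (π _) T T, hT, ← map_mul π ⟨t, htN⟩,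
          show (⟨t, htN⟩ : N) * ⟨t, htN⟩ = 1 from Subtype.ext c.sq_t, map_one, mul_one,
          inv_mul_cancel]
      obtain ⟨s, hsK, hst⟩ := c.exists_fixed_coset hLo (inf_le_right : K ≤ L) hmem
      obtain ⟨⟨⟨s', hs'N⟩, hs', rfl⟩, hsL⟩ := mem_inf.1 hsK
      rw [Subgroup.coe_subtype] at hst hsL
      obtain ⟨b, ⟨a, y, rfl⟩, x, hx, hbx⟩ := hLt _ (mul_mem hm hsL) hst
      have hπm : π ⟨m, hmN⟩ = π ⟨m * s', mul_mem hmN hs'N⟩ := by
        rw [show (⟨m * s', mul_mem hmN hs'N⟩ : N) = ⟨m, hmN⟩ * ⟨s', hs'N⟩ from rfl, map_mul,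
          (MonoidHom.mem_ker.1 hs'), mul_one]
      rw [hπm] at hpow ⊢
      have hrU : (m * s') ^ r ∈ c.U :=
        hker (pow_mem (mul_mem hmN hs'N) r) (by rw [← hpow, ← map_pow]; rfl)
          ((show Commute (m * s') t from hst).pow_left r).eq (pow_mem (mul_mem hm hsL) r)
      have hpr : ∀ n : ℕ, ∃ b ∈ c.B, (c.uu a * c.hh y * x) ^ n = b * x ^ n := by
        intro n
        induction n with
        | zero => exact ⟨1, one_mem _, by simp⟩
        | succ n ih =>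
          obtain ⟨b, hb, e⟩ := ih
          exact ⟨b * (x ^ n * (c.uu a * c.hh y) * (x ^ n)⁻¹),
            mul_mem hb (c.field_conj_B (pow_mem hx n) ⟨a, y, rfl⟩),
            by rw [pow_succ, e, pow_succ]; group⟩
      obtain ⟨b, hb, e⟩ := hpr r
      rw [← hbx] at e
      have hxr : x ^ r = 1 := (c.BF_unique hb (c.U_le_B hrU) (pow_mem hx r) (one_mem _)
        (by rw [mul_one]; exact e.symm)).2
      have hx1 : x = 1 := by
        refine orderOf_eq_one_iff.1 (Nat.eq_one_of_dvd_coprimes (a := r)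
          (b := Nat.card ↥(fieldPart S)) ?_ (orderOf_dvd_of_pow_eq_one hxr)
          (Subgroup.orderOf_dvd_natCard _ hx))
        exact Γ.prime.coprime_iff_not_dvd.2 fun h =>
          absurd (Nat.le_of_dvd Nat.card_pos h) (not_le.2 Γ.big)
      rw [hx1, mul_one] at hbx
      rw [hbx] at hrU
      obtain ⟨a', ha'⟩ := Gen.exists_pow_uh (c := c) a y r
      rw [ha'] at hrU
      obtain ⟨a'', ha''⟩ := hrU
      have h1 : c.uu (a' + -a'') * c.hh (y ^ r) = 1 := by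
        rw [add_comm, c.uu_add, mul_assoc, ← ha'', ← c.uu_inv, inv_mul_cancel]
      have h2 := c.hh_eq_one.1 (Gen.eq_zero_of_mul_eq_one h1).2
      obtain ⟨i, hi⟩ := mem_zpowers_iff.1
        (Γ.mem_zpowers_of_pow (y := y * y) (by rw [mul_pow]; exact h2))
      obtain ⟨k, hk⟩ : Odd r := Γ.prime.odd_of_ne_two (by have := Γ.five; omega)
      have hy' : c.hh y = c.hh c₀ ^ (i * (k + 1 : ℕ)) := by
        have e1 : c.hh y ^ r = 1 := by rw [c.hh_pow, c.hh_eq_one, h2]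
        calc c.hh y = c.hh y ^ (r + 1) := by rw [pow_succ, e1, one_mul]
          _ = c.hh (y * y) ^ (k + 1) := by
            rw [hk, show 2 * k + 1 + 1 = 2 * (k + 1) by omega, pow_mul, pow_two, ← c.hh_mul]
          _ = _ := by
            rw [← hi, show c.hh (c₀ ^ i) = c.hh c₀ ^ i from map_zpow c.hhHom c₀ i, ← zpow_natCast,
              ← zpow_mul]
      refine mem_zpowers_iff.2 ⟨i * (k + 1 : ℕ), ?_⟩
      rw [hH, ← map_zpow]
      calc π (⟨c.hh c₀, hLN hh0L⟩ ^ (i * (k + 1 : ℕ)))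
          = π ⟨c.uu a, hLN (hBF (c.U_le_BF ⟨a, rfl⟩))⟩ *
              π (⟨c.hh c₀, hLN hh0L⟩ ^ (i * (k + 1 : ℕ))) := by rw [htriv, one_mul]
        _ = _ := by
          rw [← map_mul]
          refine congrArg π (Subtype.ext ?_)
          show c.uu a * ((⟨c.hh c₀, hLN hh0L⟩ : N) ^ (i * (k + 1 : ℕ)) : N) = m * s'
          rw [Subgroup.coe_zpow, ← hy', ← hbx]
  -- the element `g`
  obtain ⟨b, ⟨a, y, rfl⟩, x, hx, hgx⟩ := hLt g (c.gens_le htL hg) hgt
  subst hgx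
  suffices hx1 : x = 1 by rw [hx1, mul_one]; exact ⟨a, y, rfl⟩
  by_contra hx1
  obtain ⟨v, n, hv, hvn, hne⟩ := Γ.moved hx hx1
  have hgN : c.uu a * c.hh y * x ∈ N := hLN (c.gens_le htL hg)
  have hgen : ∀ x ∈ c.gens L, ∃ hx : x ∈ N,
      π ⟨x, hx⟩ ∈ closure {i : MulAut Z | ∃ m ∈ M, i = m * (T * m⁻¹ * T)} := by
    intro x hx
    induction hx using closure_induction with
    | mem z hz =>
      obtain ⟨m, hm, rfl⟩ := hz
      refine ⟨hLN (mul_mem hm (c.conj_t htL (inv_mem hm))),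
        subset_closure ⟨π ⟨m, hLN hm⟩, mem_map_of_mem π (mem_subgroupOf.2 hm), ?_⟩⟩
      rw [hT, ← map_inv, ← map_mul, ← map_mul, ← map_mul]
      rfl
    | one =>
      refine ⟨one_mem _, ?_⟩
      rw [show (⟨1, one_mem N⟩ : N) = 1 from rfl, map_one]
      exact one_mem _
    | mul a b _ _ ha hb =>
      obtain ⟨ha, ha'⟩ := ha
      obtain ⟨hb, hb'⟩ := hb
      refine ⟨mul_mem ha hb, ?_⟩
      rw [show (⟨a * b, mul_mem ha hb⟩ : N) = ⟨a, ha⟩ * ⟨b, hb⟩ from rfl, map_mul]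
      exact mul_mem ha' hb'
    | inv a _ ha =>
      obtain ⟨ha, ha'⟩ := ha
      refine ⟨inv_mem ha, ?_⟩
      rw [show (⟨a⁻¹, inv_mem ha⟩ : N) = ⟨a, ha⟩⁻¹ from rfl, map_inv]
      exact inv_mem ha'
  obtain ⟨_, hgM⟩ := hgen _ hg
  have hconj : π ⟨_, hgN⟩ * H * (π ⟨_, hgN⟩)⁻¹ = H ^ n := by
    have hsplit : π ⟨_, hgN⟩ = π ⟨c.hh y * x, mul_mem (hLN (hBF (c.B_le_BF (c.hh_mem_B y))))
        (hLN (hBF (c.field_le_BF hx)))⟩ := by
      rw [show (⟨_, hgN⟩ : N) = ⟨c.uu a, hLN (hBF (c.U_le_BF ⟨a, rfl⟩))⟩ *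
        ⟨c.hh y * x, mul_mem (hLN (hBF (c.B_le_BF (c.hh_mem_B y))))
          (hLN (hBF (c.field_le_BF hx)))⟩ from Subtype.ext (mul_assoc _ _ _), map_mul, htriv,
        one_mul]
    rw [hsplit, hH, ← map_inv, ← map_mul, ← map_mul, ← map_pow]
    refine congrArg π (Subtype.ext ?_)
    show c.hh y * x * c.hh c₀ * (c.hh y * x)⁻¹ = ((⟨c.hh c₀, hLN hh0L⟩ : N) ^ n : N)
    rw [Subgroup.coe_pow, ← hvn, show c.hh y * x * c.hh c₀ * (c.hh y * x)⁻¹ =
      c.hh y * (x * c.hh c₀ * x⁻¹) * (c.hh y)⁻¹ by group, hv, ← c.hh_mul, mul_comm y v, c.hh_mul,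
      mul_inv_cancel_right]
  refine Three.false_of_gen hyp hgM ?_ hconj fun hcomm => ?_
  · show T * π ⟨_, hgN⟩ = π ⟨_, hgN⟩ * T
    rw [hT, ← map_mul, ← map_mul]
    exact congrArg π (Subtype.ext hgt.symm)
  · rw [hcomm.eq, mul_inv_cancel_right] at hconj
    have hvn' : c.hh (v * c₀⁻¹) = c.hh c₀ ^ n * (c.hh c₀)⁻¹ := by
      rw [c.hh_mul, hvn, c.hh_inv]
    have hk1 : π ⟨c.hh (v * c₀⁻¹), hLN (hBF (c.B_le_BF (c.hh_mem_B _)))⟩ = 1 := by
      rw [show (⟨c.hh (v * c₀⁻¹), hLN (hBF (c.B_le_BF (c.hh_mem_B _)))⟩ : N) =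
        ⟨c.hh c₀, hLN hh0L⟩ ^ n * (⟨c.hh c₀, hLN hh0L⟩ : N)⁻¹ from Subtype.ext (by
          rw [Subgroup.coe_mul, Subgroup.coe_inv, Subgroup.coe_pow]; exact hvn'),
        map_mul, map_pow, map_inv, ← hH, ← hconj, mul_inv_cancel]
    obtain ⟨a', ha'⟩ := hker (hLN (hBF (c.B_le_BF (c.hh_mem_B _)))) hk1
      (c.comm_t (c.hh_mem _)) (hBF (c.B_le_BF (c.hh_mem_B _)))
    have h1 : c.uu (-a') * c.hh (v * c₀⁻¹) = 1 := by
      rw [← ha', ← c.uu_inv, inv_mul_cancel]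
    exact hne (c.hh_eq_one.1 (Gen.eq_zero_of_mul_eq_one h1).2)

theorem mem_B_of_gens {g : G} (hg : g ∈ c.gens L) (hgt : g * t = t * g) : g ∈ c.B := by
  rcases (c.zj_cases Γ hP).2 with h | h
  · exact c.mem_B_of_inverted Γ hP hLo hBF hLN htL hLt h hg hgt
  · exact c.mem_B_of_le Γ hP hLo hBF hLN htL hLt h hg hgt

omit Γ hP hLo hBF hLN htL hLt

/-- Characteristic three and `3 ∣ |fieldPart S|` is impossible. -/
theorem false_of_three (h3 : 3 ∣ Nat.card ↥(fieldPart S)) : False := by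
  haveI : Fact (Nat.Prime 3) := ⟨Nat.prime_three⟩
  obtain ⟨r, c₀, Γ⟩ := c.exists_gen h3
  obtain ⟨P, L, hP, hPL, hLo, hBF, hLN, htL, hLt, hN⟩ := c.exists_parabolic Γ
  set K := c.gens L with hK
  have hKL : K ≤ L := c.gens_le htL
  have hkey : ∀ g ∈ K, g * t = t * g → g ∈ c.B := fun g hg hgt =>
    c.mem_B_of_gens Γ hP hLo hBF hLN htL hLt hg hgt
  -- the map onto the field part
  let Rel : G → G → Prop := fun g x => x ∈ fieldPart S ∧ ∃ k ∈ K, ∃ b ∈ c.B, g = k * b * x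
  have hex : ∀ g ∈ L, ∃ x, Rel g x := by
    intro g hg
    have hm : g⁻¹⁻¹ * (t * g⁻¹ * t) ∈ K := by
      rw [inv_inv]; exact subset_closure ⟨g, hg, rfl⟩
    obtain ⟨s, hs, hst⟩ := c.exists_fixed_coset hLo hKL hm
    obtain ⟨b, hb, x, hx, hbx⟩ := hLt (g⁻¹ * s)⁻¹
      (inv_mem (mul_mem (inv_mem hg) (hKL hs)))
      ((show Commute (g⁻¹ * s) t from hst).inv_left).eq
    refine ⟨x, hx, s, hs, b, hb, ?_⟩
    rw [mul_assoc, ← hbx]
    group
  have huniq : ∀ {g x x'}, Rel g x → Rel g x' → x = x' := by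
    rintro g x x' ⟨hx, k, hk, b, hb, rfl⟩ ⟨hx', k', hk', b', hb', e⟩
    have hmem : k'⁻¹ * k ∈ K := mul_mem (inv_mem hk') hk
    have e' : k'⁻¹ * k = b' * x' * (b * x)⁻¹ := by
      calc k'⁻¹ * k = k'⁻¹ * (k * b * x) * (b * x)⁻¹ := by group
        _ = _ := by rw [e]; group
    have hbx : ∀ {b x}, b ∈ c.B → x ∈ fieldPart S → b * x ∈ c.BF := fun hb hx =>
      mul_mem (c.B_le_BF hb) (c.field_le_BF hx)
    have hB' := hkey _ hmem (e' ▸ c.comm_t_BF (mul_mem (hbx hb' hx') (inv_mem (hbx hb hx))))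
    rw [e'] at hB'
    have h1 := c.BF_unique (mul_mem (inv_mem hb') (mul_mem hB' hb)) (one_mem _)
      (one_mem _) (mul_mem hx' (inv_mem hx))
      (by group)
    exact (mul_inv_eq_one.1 h1.2.symm).symm
  have hmul : ∀ {g g' x x'}, g ∈ L → g' ∈ L → Rel g x → Rel g' x' → Rel (g * g') (x * x') := by
    rintro g g' x x' hgL - ⟨hx, k, hk, b, hb, rfl⟩ ⟨hx', k', hk', b', hb', rfl⟩
    refine ⟨mul_mem hx hx', k * ((b * x) * k' * (b * x)⁻¹),
      mul_mem hk (c.conj_mem_gens (mul_mem (hBF (c.B_le_BF hb)) (hBF (c.field_le_BF hx))) hk'),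
      b * (x * b' * x⁻¹), mul_mem hb (c.field_conj_B hx hb'), ?_⟩
    group
  choose f hf using hex
  letI : CommGroup ↥(fieldPart S) := { (inferInstance : Group ↥(fieldPart S)) with
    mul_comm := fun a b => Subtype.ext (c.ctx.comm_fieldPart a.2 b.2) }
  let φ : L →* ↥(fieldPart S) := MonoidHom.mk' (fun g => ⟨f g g.2, (hf g g.2).1⟩) fun a b =>
    Subtype.ext (huniq (hf _ (a * b).2) (hmul a.2 b.2 (hf a a.2) (hf b b.2)))
  have hφt : ∀ (g : G) (hg : g ∈ L), φ ⟨t * g * t, c.conj_t htL hg⟩ = φ ⟨g, hg⟩ := by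
    intro g hg
    obtain ⟨hx, k, hk, b, hb, e⟩ := hf g hg
    refine Subtype.ext (huniq (hf _ (c.conj_t htL hg)) ⟨hx, t * k * t, c.t_mem_gens hk, b, hb, ?_⟩)
    have hb' := c.comm_t_BF (mul_mem (c.B_le_BF hb) (c.field_le_BF hx))
    show t * g * t = t * k * t * b * f g hg
    generalize f g hg = x at e hx hb' ⊢
    subst e
    calc t * (k * b * x) * t = t * k * ((b * x) * t) := by group
      _ = t * k * (t * (b * x)) := by rw [hb']
      _ = _ := by group
  -- a three-element moved by `φ`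
  obtain ⟨⟨y, hy⟩, hyo⟩ := exists_prime_orderOf_dvd_card' 3 h3
  have hφy : φ ⟨y, hBF (c.field_le_BF hy)⟩ = ⟨y, hy⟩ := Subtype.ext (huniq (hf _ _)
    ⟨hy, 1, one_mem _, 1, one_mem _, by simp⟩)
  obtain ⟨g, hg, hgφ⟩ : ∃ g : G, ∃ hg : g ∈ (P : Subgroup G), φ ⟨g, hPL hg⟩ ≠ 1 := by
    by_contra hno
    push Not at hno
    have hle : (P : Subgroup G).subgroupOf L ≤ φ.ker := fun z hz => hno z hz
    have hidx : ¬ 3 ∣ φ.ker.index := fun h => (P.subtype hPL).not_dvd_index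
      (h.trans (index_dvd_of_le (by rwa [Sylow.coe_subtype])))
    rw [index_ker] at hidx
    refine hidx ?_
    have h1 := Subgroup.orderOf_dvd_natCard φ.range ⟨_, hφy⟩
    rwa [hyo] at h1
  -- the transfer
  let ψ : (P : Subgroup G) →* ↥(fieldPart S) := φ.comp (Subgroup.inclusion hPL)
  haveI : Fact (Nat.Prime 2) := ⟨Nat.prime_two⟩
  obtain ⟨T⟩ : Nonempty (Sylow 2 G) := inferInstance
  have hV := Fusion.Thompson.transfer_controlled ψ g hg fun m a ha => by
    obtain ⟨n, hn, hne⟩ := ZJ.exists_conj_centerThompsonAOf (p := 3) (by norm_num)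
      (PLocal.noSLTwo_of_abelian_sylow_two (by norm_num) T (NoField.IsJR.sylow_comm c.jr T)) P
      (A := {g ^ m}) (by
        rw [Set.singleton_subset_iff]; exact pow_mem hg m) (g := a) (by
        rw [Set.image_singleton, Set.singleton_subset_iff]; exact ha)
    have hne' := hne _ rfl
    have hgm : g ^ m ∈ L := pow_mem (hPL hg) m
    have hgoal : φ ⟨a * g ^ m * a⁻¹, hPL ha⟩ = φ ⟨g ^ m, hgm⟩ := by
      rcases hN n hn with hnL | hnL
      · rw [show (⟨a * g ^ m * a⁻¹, hPL ha⟩ : L) = ⟨n, hnL⟩ * ⟨g ^ m, hgm⟩ * ⟨n, hnL⟩⁻¹ from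
          Subtype.ext hne'.symm, map_mul, map_mul, map_inv, mul_comm (φ _), mul_inv_cancel_right]
      · rw [show (⟨a * g ^ m * a⁻¹, hPL ha⟩ : L) =
            ⟨n * t, hnL⟩ * ⟨t * g ^ m * t, c.conj_t htL hgm⟩ * ⟨n * t, hnL⟩⁻¹ from Subtype.ext (by
          show a * g ^ m * a⁻¹ = n * t * (t * g ^ m * t) * (n * t)⁻¹
          rw [← hne', mul_inv_rev, inv_eq_of_mul_eq_one_right c.sq_t]
          calc n * g ^ m * n⁻¹ = n * 1 * g ^ m * 1 * n⁻¹ := by group
            _ = n * (t * t) * g ^ m * (t * t) * n⁻¹ := by rw [c.sq_t]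
            _ = _ := by group), map_mul, map_mul, map_inv, mul_comm (φ _), mul_inv_cancel_right,
          hφt]
    exact hgoal.trans (map_pow φ ⟨g, hPL hg⟩ m)
  have hne1 : MonoidHom.transfer ψ g ≠ 1 := by
    rw [hV]
    intro h1
    refine hgφ (orderOf_eq_one_iff.1 ?_)
    refine Nat.eq_one_of_dvd_coprimes ?_
      ((orderOf_map_dvd ψ ⟨g, hg⟩).trans (orderOf_dvd_natCard _)) (orderOf_dvd_of_pow_eq_one h1)
    exact P.card_coprime_index
  haveI := c.jr.simple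
  rcases Subgroup.Normal.eq_bot_or_eq_top (MonoidHom.normal_ker (MonoidHom.transfer ψ)) with h | h
  · refine c.hh_moves Γ ?_
    rw [mul_inv_eq_iff_eq_mul]
    exact (MonoidHom.ker_eq_bot_iff _).1 h (by rw [map_mul, map_mul, mul_comm])
  · exact hne1 (MonoidHom.mem_ker.1 (h ▸ mem_top g))

end Cfsg.Agent.Lib.Walter.NoField.Cent.Chart

namespace Cfsg.Agent.Lib.Walter.NoField

/-- The equation `q (q - 1) (q + 1)` determines `q`. -/
theorem eq_of_card_psl {F F' : Type} [Field F] [Fintype F] [Field F'] [Fintype F']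
    (h : Odd (Fintype.card F)) (h' : Odd (Fintype.card F'))
    (e : Matrix.ProjectiveSpecialLinearGroup (Fin 2) F ≃*
      Matrix.ProjectiveSpecialLinearGroup (Fin 2) F') : Fintype.card F = Fintype.card F' := by
  have h1 := Linear.two_mul_card_PSL_two_of_odd (F := F) h
  have h2 := Linear.two_mul_card_PSL_two_of_odd (F := F') h'
  rw [Nat.card_congr e.toEquiv, h2] at h1
  have hmono : ∀ a b : ℕ, 1 ≤ a → a < b → a * (a - 1) * (a + 1) < b * (b - 1) * (b + 1) := by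
    intro a b ha hab
    exact Nat.mul_lt_mul_of_lt_of_le'
      (Nat.mul_lt_mul_of_lt_of_lt hab (by omega)) (by omega) (by omega)
  rcases lt_trichotomy (Fintype.card F) (Fintype.card F') with hl | hl | hl
  · exact absurd h1.symm (hmono _ _ Fintype.card_pos hl).ne
  · exact hl
  · exact absurd h1 (hmono _ _ Fintype.card_pos hl).ne

theorem propThree : PropThree.{u} := by
  intro G _ _ S t E E₀ C h3 F _ _ hF3 he
  obtain ⟨φ⟩ := he
  obtain ⟨F', i1, i2, ⟨c⟩⟩ := Cent.exists_chart C.jr S C.ord C.mem C.cent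
  haveI : Fact (Nat.Prime 3) := ⟨Nat.prime_three⟩
  obtain ⟨p, hp⟩ := CharP.exists F
  haveI : Fact p.Prime := ⟨CharP.char_is_prime F p⟩
  obtain ⟨n, -, hn⟩ := FiniteField.card F p
  have hp3 : p = 3 := ((Nat.prime_dvd_prime_iff_eq Nat.prime_three Fact.out).1
    (Nat.prime_three.dvd_of_dvd_pow (hn ▸ hF3))).symm
  have hodd : Odd (Fintype.card F) := by rw [hn, hp3]; exact (show Odd 3 by decide).pow
  have hq' : Odd (Fintype.card F') := Nat.odd_iff.2 (by have := c.card_mod; omega)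
  have hcard := eq_of_card_psl hodd hq' (φ.symm.trans c.φ)
  haveI : CharP F' 3 := charP_of_card_eq_prime_pow (f := (n : ℕ))
    (by rw [← hp3, ← hn, hcard])
  exact c.false_of_three h3

end Cfsg.Agent.Lib.Walter.NoField
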