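import Cfsg.Agent.Lib.Walter.NoField.Three.Model
import Cfsg.Agent.Lib.Coprime.Glauberman
import Cfsg.Agent.Lib.OddOrder.FeitThompson

/-!
# Section Z, characteristic three: involutions and three-subgroups

* `comm_of_normalizes` (K1): a four-group normalising a three-group centralises it;
* `eq_t_of_normalizes`: so no four-group over `t` normalises a three-group meeting `U`;
* `hh_no_inverted`: `t` inverts no element of order three centralising a non-trivial element of `H₀`;
* `oddPart`: a subgroup over `t` with no four-group over `t` is `O ⟨t⟩`.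

Owner: helper37.
-/

set_option autoImplicit false
set_option linter.style.haveILetI false
set_option linter.unusedSectionVars false

universe u

namespace Cfsg.Agent.Lib.Walter.NoField.Cent.Chart

open Subgroup Cfsg.Agent.Lib.AutPSL
open scoped MatrixGroups Pointwise

variable {G : Type u} [Group G] [Finite G] {S : Sylow 2 G} {t : G} {E E₀ : Subgroup G}
  {F : Type} [Field F] [Fintype F] (c : Chart S t E E₀ F)

include c

/-! ## The odd part -/

variable {H : Subgroup G} (htH : t ∈ H)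
  (hH : ∀ j ∈ H, j * t = t * j → j * j = 1 → j = 1 ∨ j = t)
include htH hH

theorem exists_mul_coreIn {g : G} (hg : g ∈ H) :
    g ∈ Balance.coreIn 2 H ∨ g * t ∈ Balance.coreIn 2 H := by
  haveI : Fact (Nat.Prime 2) := ⟨Nat.prime_two⟩
  obtain ⟨P, hP⟩ := (IsPGroup.of_card (n := 1) (p := 2) (G := ↥(zpowers (⟨t, htH⟩ : H)))
    (by rw [Nat.card_zpowers, Subgroup.orderOf_mk, c.ord, pow_one])).exists_le_sylow
  have hPt : ∀ q ∈ (P : Subgroup H), q = 1 ∨ q = ⟨t, htH⟩ := by
    intro q hq
    obtain ⟨R, hR⟩ := (P.isPGroup'.map H.subtype).exists_le_sylow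
    have hqR : (q : G) ∈ (R : Subgroup G) := hR (mem_map_of_mem _ hq)
    have htR : t ∈ (R : Subgroup G) := hR (mem_map_of_mem H.subtype (hP (mem_zpowers _)))
    rcases hH q q.2 (NoField.IsJR.comm_mem c.jr R hqR htR) (NoField.IsJR.sq_mem c.jr R hqR) with
      h | h
    exacts [Or.inl (Subtype.ext h), Or.inr (Subtype.ext h)]
  have hPn : normalizer ((P : Subgroup H) : Set H) ≤ centralizer ((P : Subgroup H) : Set H) := by
    intro n hn
    refine mem_centralizer_iff.2 fun q hq => ?_
    rcases hPt q hq with rfl | rfl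
    · rw [one_mul, mul_one]
    rcases hPt _ ((mem_normalizer_iff.1 hn _).1 hq) with h | h
    · exact absurd (congrArg Subtype.val (conj_eq_one_iff.1 h)) c.t_ne_one
    · exact (mul_inv_eq_iff_eq_mul.1 h).symm
  have hcompl := MonoidHom.ker_transferSylow_isComplement' P hPn
  set N := (MonoidHom.transferSylow P hPn).ker
  have hNodd : Odd (Nat.card N) := by
    rw [← Nat.not_even_iff_odd, even_iff_two_dvd, ← hcompl.index_eq_card]
    exact P.not_dvd_index
  have hN : ∀ v : H, v ∈ N → (v : G) ∈ Balance.coreIn 2 H := fun v hv =>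
    mem_map_of_mem _ (Cores.le_pPrimeCore (Nat.coprime_two_right.2 hNodd) hv)
  obtain ⟨⟨⟨u, hu⟩, ⟨s, hs⟩⟩, hus⟩ := hcompl.2 (⟨g, hg⟩ : H)
  have hgs : (u : G) * (s : G) = g := congrArg Subtype.val hus
  rcases hPt s hs with rfl | rfl
  · rw [coe_one, mul_one] at hgs
    exact Or.inl (hgs ▸ hN u hu)
  · refine Or.inr ?_
    rw [← hgs, mul_assoc, c.sq_t, mul_one]
    exact hN u hu

/-- Elements of odd order lie in the odd part. -/
theorem mem_coreIn_of_odd {g : G} (hg : g ∈ H) (ho : Odd (orderOf g)) :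
    g ∈ Balance.coreIn 2 H := by
  rcases c.exists_mul_coreIn htH hH hg with h | h
  · exact h
  set O := Balance.coreIn 2 H with hO
  have ht : t ∈ normalizer (O : Set G) := Balance.le_normalizer_coreIn H htH
  have hg2 : g * g ∈ O := by
    have h2 := mul_mem h ((mem_normalizer_iff.1 ht _).1 h)
    rwa [show g * t * (t * (g * t) * t⁻¹) = g * (t * t) * g * (t * t⁻¹) by group, c.sq_t, mul_one,
      mul_inv_cancel, mul_one] at h2
  obtain ⟨k, hk⟩ := ho
  have he : g = (g * g) ^ (k + 1) := by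
    have h1 := pow_orderOf_eq_one g
    rw [hk] at h1
    rw [← pow_two, ← pow_mul, show 2 * (k + 1) = 2 * k + 1 + 1 by omega, pow_succ, h1, one_mul]
  exact he ▸ pow_mem hg2 _

omit htH hH

/-! ## Three-subgroups -/

variable [CharP F 3]

/-- For any two commuting involutions `a ≠ b`, `a` inverts no element of order three of `C(b)`. -/
theorem inverted_eq_one' {a b g : G} (ha : a * a = 1) (ha1 : a ≠ 1) (hb : b * b = 1) (hb1 : b ≠ 1)
    (hne : a ≠ b) (hab : a * b = b * a) (hgb : g * b = b * g) (hg : g ^ 3 = 1)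
    (h : a * g * a * g = 1) : g = 1 := by
  obtain ⟨x, hx⟩ := isConj_iff.1
    (c.jr.conj b t (orderOf_eq_prime (by rw [pow_two, hb]) hb1) c.ord)
  have hm : ∀ p q : G, x * (p * q) * x⁻¹ = x * p * x⁻¹ * (x * q * x⁻¹) := fun p q => by group
  have hinj : ∀ {p q : G}, x * p * x⁻¹ = x * q * x⁻¹ → p = q := fun h =>
    mul_left_cancel (mul_right_cancel h)
  refine conj_eq_one_iff.1 (c.inverted_eq_one (j := x * a * x⁻¹) (g := x * g * x⁻¹) ?_ ?_ ?_ ?_ ?_ ?_
    ?_)
  · rw [← hx, ← hm, ← hm, hab]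
  · rw [← hm, ha, mul_one, mul_inv_cancel]
  · exact fun e => ha1 (conj_eq_one_iff.1 e)
  · exact fun e => hne (hinj (e.trans hx.symm))
  · rw [← hx, ← hm, ← hm, hgb]
  · rw [conj_pow, hg, mul_one, mul_inv_cancel]
  · rw [← hm, ← hm, ← hm, h, mul_one, mul_inv_cancel]

/-- The same for three-elements. -/
theorem inverted_eq_one_of_pgroup {R : Subgroup G} (hR : IsPGroup 3 R) {a b g : G}
    (ha : a * a = 1) (ha1 : a ≠ 1) (hb : b * b = 1) (hb1 : b ≠ 1)
    (hne : a ≠ b) (hab : a * b = b * a) (hgR : g ∈ R) (hgb : g * b = b * g)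
    (h : a * g * a * g = 1) : g = 1 := by
  obtain ⟨k, hk⟩ := hR ⟨g, hgR⟩
  replace hk : g ^ 3 ^ k = 1 := congrArg Subtype.val hk
  clear hgR
  induction k generalizing g with
  | zero => simpa using hk
  | succ k ih =>
    have hc : Commute g b := hgb
    have hai : a⁻¹ = a := inv_eq_of_mul_eq_one_right ha
    have h3 : g ^ 3 = 1 := ih (g := g ^ 3) (hc.pow_left 3).eq (by
      have h1 : a * g * a⁻¹ = g⁻¹ := by rw [hai]; exact eq_inv_of_mul_eq_one_left h
      have h2 : a * g ^ 3 * a⁻¹ = (g ^ 3)⁻¹ := by rw [← conj_pow, h1, inv_pow]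
      rw [hai] at h2
      rw [h2, inv_mul_cancel]) (by rw [← pow_mul, ← pow_succ']; exact hk)
    exact c.inverted_eq_one' ha ha1 hb hb1 hne hab hgb h3 h

/-- (K1) Commuting involutions normalising a three-group: each centralises it. -/
theorem comm_of_normalizes {R : Subgroup G} (hR : IsPGroup 3 R) {a b : G} (ha : a * a = 1)
    (ha1 : a ≠ 1) (hb : b * b = 1) (hb1 : b ≠ 1) (hne : a ≠ b) (hab : a * b = b * a)
    (han : a ∈ normalizer (R : Set G)) (hbn : b ∈ normalizer (R : Set G)) :
    ∀ x ∈ R, a * x = x * a := by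
  have hai : a⁻¹ = a := inv_eq_of_mul_eq_one_right ha
  have haR : ∀ x ∈ R, a * x * a⁻¹ ∈ R := fun x hx => (mem_normalizer_iff.1 han x).1 hx
  have hbR : ∀ x ∈ R, b * x * b⁻¹ ∈ R := fun x hx => (mem_normalizer_iff.1 hbn x).1 hx
  have hRodd : Odd (Nat.card R) := by
    haveI : Fact (Nat.Prime 3) := ⟨Nat.prime_three⟩
    obtain ⟨n, hn⟩ := IsPGroup.iff_card.1 hR
    rw [hn]
    exact (show Odd 3 by decide).pow
  have key : ∀ d : G, d * d = 1 → d ≠ 1 → a ≠ d → a * d = d * a → ∀ x ∈ R, d * x * d⁻¹ = x →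
      x ∈ centralizer ({a} : Set G) := by
    intro d hd hd1 hnd had x hx hxd
    have hxd' : Commute x d := (mul_inv_eq_iff_eq_mul.1 hxd).symm
    have hmem : x⁻¹ * (a * x * a⁻¹) ∈ R := mul_mem (inv_mem hx) (haR x hx)
    have hc : Commute (x⁻¹ * (a * x * a⁻¹)) d :=
      hxd'.inv_left.mul_left (((show Commute a d from had).mul_left hxd').mul_left
        (show Commute a d from had).inv_left)
    have := c.inverted_eq_one_of_pgroup hR ha ha1 hd hd1 hnd had hmem hc.eq (by
      rw [hai]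
      calc a * (x⁻¹ * (a * x * a)) * a * (x⁻¹ * (a * x * a))
          = a * x⁻¹ * a * x * (a * a) * x⁻¹ * a * x * a := by group
        _ = a * x⁻¹ * a * x * 1 * x⁻¹ * a * x * a := by rw [ha]
        _ = a * x⁻¹ * (a * a) * x * a := by group
        _ = a * x⁻¹ * 1 * x * a := by rw [ha]
        _ = a * a := by group
        _ = 1 := ha)
    rw [inv_mul_eq_one] at this
    exact mem_centralizer_singleton_iff.2 (mul_inv_eq_iff_eq_mul.1 this.symm).symm
  have hle := RankOne.Involution.le_of_four_group hRodd (M := centralizer ({a} : Set G)) ha hb hab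
    haR hbR (fun x hx h => mem_centralizer_singleton_iff.2 (mul_inv_eq_iff_eq_mul.1 h).symm)
    (key b hb hb1 hne hab)
    (key (a * b) (by rw [show a * b * (a * b) = a * (b * a) * b by group, ← hab, ← mul_assoc, ha,
        one_mul, hb])
      (fun e => hne (by rw [eq_inv_of_mul_eq_one_left e, inv_eq_of_mul_eq_one_right hb]))
      (fun e => hb1 (mul_eq_left.1 e.symm))
      (by rw [← mul_assoc, ha, one_mul, hab, mul_assoc, ha, mul_one]))
  exact fun x hx => (mem_centralizer_singleton_iff.1 (hle hx)).symm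

/-- No four-group over `t` normalises a three-group meeting `U`. -/
theorem eq_t_of_normalizes {R : Subgroup G} (hR : IsPGroup 3 R) (htn : t ∈ normalizer (R : Set G))
    {a : F} (ha : a ≠ 0) (hu : c.uu a ∈ R) {j : G} (hjn : j ∈ normalizer (R : Set G))
    (hjt : j * t = t * j) (hj : j * j = 1) : j = 1 ∨ j = t := by
  by_contra h
  push Not at h
  rcases c.eq_t_of_commute_u ha hjt hj
    (c.comm_of_normalizes hR hj h.1 c.sq_t c.t_ne_one h.2 hjt hjn htn _ hu) with e | e
  exacts [h.1 e, h.2 e]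

/-- `t` inverts no element of order three centralising a non-trivial element of `H₀`. -/
theorem hh_no_inverted {x : Fˣ} (hx : c.hh x ≠ 1) {g : G} (hg : g ^ 3 = 1)
    (hgh : g * c.hh x = c.hh x * g) (h : t * g * t * g = 1) : g = 1 := by
  haveI : Fact (Nat.Prime 3) := ⟨Nat.prime_three⟩
  haveI : Fact (Nat.Prime 2) := ⟨Nat.prime_two⟩
  set H := centralizer ({c.hh x} : Set G) with hHdef
  have htH : t ∈ H := mem_centralizer_singleton_iff.2 (c.comm_t (c.hh_mem x)).symm
  have hH : ∀ j ∈ H, j * t = t * j → j * j = 1 → j = 1 ∨ j = t := fun j hj hjt hj2 =>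
    c.eq_t_of_commute_h hx hjt hj2 (mem_centralizer_singleton_iff.1 hj)
  set O := Balance.coreIn 2 H with hOdef
  have hgo : Odd (orderOf g) := (show Odd 3 by decide).of_dvd_nat (orderOf_dvd_of_pow_eq_one hg)
  have hgO : g ∈ O := c.mem_coreIn_of_odd htH hH (mem_centralizer_singleton_iff.2 hgh) hgo
  have hOo : Odd (Nat.card O) := Nat.coprime_two_right.1 (Balance.coreIn_coprime (p := 2) H)
  have htO : t ∈ normalizer (O : Set G) := Balance.le_normalizer_coreIn H htH
  have hti : t⁻¹ = t := inv_eq_of_mul_eq_one_right c.sq_t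
  have hwH : ∀ y ∈ H, c.ww * y * c.ww⁻¹ ∈ H := by
    intro y hy
    rw [hHdef, mem_centralizer_singleton_iff] at hy ⊢
    have h1 : c.ww * c.hh x * c.ww⁻¹ = (c.hh x)⁻¹ := by
      rw [c.ww_conj_hh, mul_inv_cancel_right, c.hh_inv]
    have h2 : Commute (c.ww * y * c.ww⁻¹) (c.hh x)⁻¹ :=
      h1 ▸ (show Commute y (c.hh x) from hy).map (MulAut.conj c.ww).toMonoidHom
    exact (inv_inv (c.hh x) ▸ h2.inv_right).eq
  have hwO : c.ww ∈ normalizer (O : Set G) :=
    mem_normalizer_fintype fun y hy => NoField.conj_mem_coreIn hwH hy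
  set A := closure ({t, c.ww} : Set G) with hA
  have hA2 : IsPGroup 2 A := Walter66.closure_pgroup
    (by rintro y (rfl | rfl); exacts [c.sq_t, c.ww_sq])
    (by
      rintro y (rfl | rfl) z (rfl | rfl)
      exacts [rfl, (c.comm_t c.ww_mem).symm, c.comm_t c.ww_mem, rfl])
  have hAO : A ≤ normalizer (O : Set G) := (closure_le _).2 (by
    rintro y (rfl | rfl); exacts [htO, hwO])
  obtain ⟨P, hP⟩ := Coprime.exists_invariant_sylow hAO (by
    obtain ⟨n, hn⟩ := IsPGroup.iff_card.1 hA2
    rw [hn]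
    exact (Nat.coprime_two_left.2 hOo).pow_left n) (Or.inl (Coprime.isSolvable_of_isPGroup hA2)) 3
  set P' := (P : Subgroup O).map O.subtype with hP'
  have htP : ∀ y ∈ P', t * y = y * t :=
    c.comm_of_normalizes (P.isPGroup'.map _) c.sq_t c.t_ne_one c.ww_sq c.ww_ne_one c.ww_ne_t.symm
      (c.comm_t c.ww_mem).symm (hP (subset_closure (Or.inl rfl)))
      (hP (subset_closure (Or.inr rfl)))
  have hgn : zpowers t ≤ normalizer ((zpowers g : Subgroup G) : Set G) := by
    rw [zpowers_le]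
    refine mem_normalizer_fintype fun y hy => ?_
    obtain ⟨i, rfl⟩ := mem_zpowers_iff.1 hy
    have h1 : t * g * t⁻¹ = g⁻¹ := by rw [hti]; exact eq_inv_of_mul_eq_one_left h
    rw [← conj_zpow, h1, inv_zpow]
    exact inv_mem (zpow_mem (mem_zpowers g) i)
  have hgp : IsPGroup 3 (zpowers g) := by
    obtain ⟨l, -, hl⟩ := (Nat.dvd_prime_pow Nat.prime_three).1
      (show orderOf g ∣ 3 ^ 1 from orderOf_dvd_of_pow_eq_one (by rw [pow_one, hg]))
    exact IsPGroup.of_card (n := l) (by rw [Nat.card_zpowers, hl])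
  have hcop : (Nat.card (zpowers t)).Coprime (Nat.card O) := by
    rw [Nat.card_zpowers, c.ord]; exact Nat.coprime_two_left.2 hOo
  obtain ⟨Q, hQ, hQn⟩ := Coprime.exists_invariant_sylow_ge (zpowers_le.2 htO) hcop
    (Or.inl (Coprime.isSolvable_zpowers t)) 3 (zpowers g) (zpowers_le.2 hgO) hgp hgn
  obtain ⟨d, hd, hdQ⟩ := Coprime.exists_conj_invariant_sylow (zpowers_le.2 htO) hcop
    (Or.inl (Coprime.isSolvable_zpowers t)) P Q
    ((zpowers_le.2 (hP (subset_closure (Or.inl rfl))))) hQn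
  have hgQ : g ∈ MulAut.conj d • P' := hdQ ▸ hQ (mem_zpowers g)
  rw [Coprime.mem_conj_smul] at hgQ
  have hdt : Commute t d := (mem_centralizer_iff.1 (mem_inf.1 hd).2 t (mem_zpowers t))
  have hgt : Commute t g := by
    have h1 : Commute t (d⁻¹ * g * d) := htP _ hgQ
    have := (hdt.mul_right h1).mul_right hdt.inv_right
    rwa [show d * (d⁻¹ * g * d) * d⁻¹ = g by group] at this
  have h2 : g * g = 1 := by
    rw [hgt.eq, mul_assoc g t t, c.sq_t, mul_one] at h
    exact h
  calc g = g ^ 3 * (g * g)⁻¹ := by group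
    _ = 1 := by rw [hg, h2, inv_one, mul_one]

end Cfsg.Agent.Lib.Walter.NoField.Cent.Chart
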