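import Cfsg.Agent.Lib.Coprime.Generation

/-!
# Section Z, characteristic three: the lines of an abelian group of type `(r, r)`

`V` is finite abelian, `M ≤ Aut V` odd, normalised by the involution `t`; `h ∈ M` of prime order `r`
commutes with `t`, has no fixed point and is irreducible on the fixed points of `t`; `x ∈ M`
commutes with `h` and is inverted by `t`, and `aa k = x h^k`.

* `exists_k`, `eq_or_eq`: the `aa l` with a non-trivial fixed point are among `l = 0, k, -k`;
* `mem_A`: the elements of order `r` of `M ∩ C(h, x)` lie in `⟨h, x⟩`;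
* `commute_of_conj_mem`: an `r`-element normalising `⟨h, x⟩` centralises it.

Owner: helper37.
-/

set_option autoImplicit false
set_option linter.unusedSectionVars false

namespace Cfsg.Agent.Lib.Walter.NoField.Three

open Subgroup

variable {V : Type*} [CommGroup V] [Finite V]

/-- The fixed points of an automorphism. -/
def fx (a : MulAut V) : Subgroup V where
  carrier := {v | a v = v}
  one_mem' := map_one a
  mul_mem' := fun {u v} hu hv => by simp only [Set.mem_ofPred_eq] at *; rw [map_mul, hu, hv]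
  inv_mem' := fun {u} hu => by simp only [Set.mem_ofPred_eq] at *; rw [map_inv, hu]

theorem mem_fx {a : MulAut V} {v : V} : v ∈ fx a ↔ a v = v := Iff.rfl

theorem mem_fx_zpow {a : MulAut V} {v : V} (h : v ∈ fx a) (i : ℤ) : v ∈ fx (a ^ i) := by
  have : a ∈ MulAction.stabilizer (MulAut V) v := h
  exact zpow_mem this i

theorem mem_fx_inv {a : MulAut V} {v : V} (h : v ∈ fx a) : v ∈ fx a⁻¹ := by
  have := mem_fx_zpow h (-1)
  rwa [zpow_neg_one] at this

variable {r : ℕ} [Fact r.Prime]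

/-- A power with exponent in `ZMod r`. -/
def pw {H : Type*} [Monoid H] (a : H) (i : ZMod r) : H := a ^ i.val

section pw

variable {H : Type*} [Group H] {a b : H}

theorem pw_add (ha : a ^ r = 1) (i j : ZMod r) : pw a (i + j) = pw a i * pw a j := by
  rw [pw, pw, pw, ← pow_add, ZMod.val_add, ← pow_eq_pow_mod _ ha]

theorem pw_zero (a : H) : pw a (0 : ZMod r) = 1 := by rw [pw, ZMod.val_zero, pow_zero]

theorem pw_one (_ha : a ^ r = 1) : pw a (1 : ZMod r) = a := by
  rw [pw, ZMod.val_one, pow_one]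

theorem pw_natCast (ha : a ^ r = 1) (n : ℕ) : pw a (n : ZMod r) = a ^ n := by
  rw [pw, ZMod.val_natCast, ← pow_eq_pow_mod _ ha]

theorem pw_mul (ha : a ^ r = 1) (i j : ZMod r) : pw a (i * j) = pw (pw a i) j := by
  rw [pw, pw, pw, ← pow_mul, ZMod.val_mul, ← pow_eq_pow_mod _ ha]

theorem pw_pow (ha : a ^ r = 1) (i : ZMod r) : pw a i ^ r = 1 := by
  rw [pw, ← pow_mul, mul_comm, pow_mul, ha, one_pow]

theorem pw_neg (ha : a ^ r = 1) (i : ZMod r) : pw a (-i) = (pw a i)⁻¹ :=
  eq_inv_of_mul_eq_one_left (by rw [← pw_add ha, neg_add_cancel, pw_zero])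

theorem commute_pw (h : Commute a b) (i j : ZMod r) : Commute (pw a i) (pw b j) := h.pow_pow _ _

theorem cr (h : Commute a b) (i : ZMod r) : Commute a (pw b i) := h.pow_right _

theorem cl (h : Commute a b) (i : ZMod r) : Commute (pw a i) b := h.pow_left _

theorem pw_mem {K : Subgroup H} (h : a ∈ K) (i : ZMod r) : pw a i ∈ K := pow_mem h _

/-- An element of order `r` conjugated into its own group by an `r`-element is centralised. -/
theorem commute_of_conj_zpowers {n : H} {s : ℕ} (hn : n ^ r ^ s = 1) (ha : a ^ r = 1)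
    (h : n * a * n⁻¹ ∈ zpowers a) : Commute n a := by
  by_cases ha1 : a = 1
  · rw [ha1]; exact Commute.one_right n
  have ho : orderOf a = r := orderOf_eq_prime ha ha1
  obtain ⟨e, he, heq⟩ : ∃ e < r, a ^ e = n * a * n⁻¹ := by
    have := (isOfFinOrder_iff_pow_eq_one.2 ⟨r, (Fact.out : r.Prime).pos, ha⟩).mem_powers_iff_mem_zpowers.2 h
    obtain ⟨e, he⟩ := this
    exact ⟨e % r, Nat.mod_lt _ (Fact.out : r.Prime).pos, by rw [← pow_eq_pow_mod _ ha]; exact he⟩
  have hi : ∀ j : ℕ, n ^ j * a * (n ^ j)⁻¹ = a ^ e ^ j := by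
    intro j
    induction j with
    | zero => simp
    | succ j ih =>
      calc n ^ (j + 1) * a * (n ^ (j + 1))⁻¹ = n ^ j * (n * a * n⁻¹) * (n ^ j)⁻¹ := by
            rw [pow_succ]; group
        _ = (n ^ j * a * (n ^ j)⁻¹) ^ e := by rw [← heq, conj_pow]
        _ = a ^ e ^ (j + 1) := by rw [ih, ← pow_mul, pow_succ]
  have h1 := hi (r ^ s)
  rw [hn, one_mul, inv_one, mul_one] at h1
  have h2 : ((e ^ r ^ s : ℕ) : ZMod r) = ((1 : ℕ) : ZMod r) := by
    rw [ZMod.natCast_eq_natCast_iff]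
    have h5 : a ^ e ^ r ^ s = a ^ 1 := by rw [pow_one]; exact h1.symm
    rw [pow_eq_pow_iff_modEq, ho] at h5
    exact h5
  have h3 : ∀ j : ℕ, (e : ZMod r) ^ r ^ j = e := by
    intro j
    induction j with
    | zero => simp
    | succ j ih => rw [pow_succ, pow_mul, ih, ZMod.pow_card]
  rw [Nat.cast_pow, h3, Nat.cast_one, ← Nat.cast_one, ZMod.natCast_eq_natCast_iff] at h2
  have : a ^ e = a := by
    have h4 : a ^ e = a ^ 1 := pow_eq_pow_iff_modEq.2 (by rwa [ho])
    rwa [pow_one] at h4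
  rw [this] at heq
  exact (eq_mul_inv_iff_mul_eq.1 heq).symm

end pw

/-- The norm along `a`. -/
noncomputable def nm (a : MulAut V) (v : V) : V :=
  ∏ i : ZMod r, (pw a i) v

theorem nm_mem_fx {a : MulAut V} (ha : a ^ r = 1) (v : V) : nm (r := r) a v ∈ fx a := by
  rw [mem_fx, nm, map_prod]
  refine Fintype.prod_equiv (Equiv.addLeft (1 : ZMod r)) _ _ fun i => ?_
  show a ((pw a i) v) = (pw a ((1 : ZMod r) + i)) v
  rw [pw_add ha, pw_one ha, MulAut.mul_apply]

theorem nm_of_fixed {a : MulAut V} {v : V} (h : v ∈ fx a) : nm (r := r) a v = v ^ r := by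
  rw [nm, Finset.prod_congr rfl (g := fun _ => v) fun i _ => ?_, Finset.prod_const, Finset.card_univ,
    ZMod.card]
  have := mem_fx_zpow h (i.val : ℤ)
  rwa [zpow_natCast] at this

theorem nm_mul (a : MulAut V) (u v : V) :
    nm (r := r) a (u * v) = nm (r := r) a u * nm (r := r) a v := by
  simp only [nm, map_mul, Finset.prod_mul_distrib]

theorem nm_fx {a b : MulAut V} (hab : Commute a b) {v : V} (h : v ∈ fx b) :
    nm (r := r) a v ∈ fx b := by
  rw [mem_fx, nm, map_prod]
  refine Finset.prod_congr rfl fun i _ => ?_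
  show b ((pw a i) v) = _
  rw [← MulAut.mul_apply, ← (cl hab i).eq, MulAut.mul_apply, mem_fx.1 h]

/-- The situation. -/
structure Hyp (M : Subgroup (MulAut V)) (t h : MulAut V) (r : ℕ) : Prop where
  odd : Odd (Nat.card M)
  sq_t : t * t = 1
  conj : ∀ m ∈ M, t * m * t ∈ M
  mem : h ∈ M
  comm : Commute t h
  five : 5 ≤ r
  ord : orderOf h = r
  cop : r.Coprime (Nat.card V)
  fpf : ∀ v : V, h v = v → v = 1
  irr : ∀ W : Subgroup V, (∀ v ∈ W, t v = v) → (∀ v ∈ W, h v ∈ W) →
    W = ⊥ ∨ ∀ v : V, t v = v → v ∈ W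
  fixed : ∀ m ∈ M, Commute t m → m ^ r = 1 → m ∈ zpowers h

/-- An element of order `r` inverted by `t` and commuting with `h`. -/
structure Inv (M : Subgroup (MulAut V)) (t h : MulAut V) (r : ℕ) (x : MulAut V) : Prop where
  base : Hyp M t h r
  mem : x ∈ M
  pow : x ^ r = 1
  ne : x ≠ 1
  comm : Commute h x
  inv : t * x * t = x⁻¹

namespace Hyp

variable {M : Subgroup (MulAut V)} {t h : MulAut V} (H : Hyp M t h r)
include H

theorem h_pow : h ^ r = 1 := H.ord ▸ pow_orderOf_eq_one h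

theorem two_ne : (2 : ZMod r) ≠ 0 := by
  intro e
  have : ((2 : ℕ) : ZMod r) = 0 := by exact_mod_cast e
  rw [ZMod.natCast_eq_zero_iff] at this
  have := Nat.le_of_dvd (by norm_num) this
  have := H.five
  omega

theorem eq_one_of_fx_pw {d : ZMod r} (hd : d ≠ 0) {v : V} (hv : v ∈ fx (pw h d)) : v = 1 := by
  refine H.fpf v ?_
  have h1 : v ∈ fx (pw (pw h d) d⁻¹) := by
    have := mem_fx_zpow hv ((d⁻¹).val : ℤ)
    rwa [zpow_natCast] at this
  rwa [← pw_mul H.h_pow, mul_inv_cancel₀ hd, pw_one H.h_pow] at h1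

theorem pow_r_injective {u v : V} (e : u ^ r = v ^ r) : u = v :=
  (powCoprime (G := V) H.cop.symm).injective e

theorem tt (v : V) : t (t v) = v := by
  rw [← MulAut.mul_apply, H.sq_t, MulAut.one_apply]

theorem eq_one_of_sq {m : MulAut V} (hm : m ∈ M) (h2 : m * m = 1) : m = 1 :=
  orderOf_eq_one_iff.1 (Nat.eq_one_of_dvd_coprimes (Nat.coprime_two_left.2 H.odd)
    (orderOf_dvd_of_pow_eq_one (by rw [pow_two]; exact h2)) (Subgroup.orderOf_dvd_natCard M hm))

end Hyp

namespace Inv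

variable {M : Subgroup (MulAut V)} {t h x : MulAut V} (X : Inv M t h r x)

/-- `x h^k`. -/
def aa (_ : Inv M t h r x) (k : ZMod r) : MulAut V := x * pw h k

include X

theorem aa_zero : X.aa 0 = x := by rw [aa, pw_zero, mul_one]

theorem aa_mem (k : ZMod r) : X.aa k ∈ M := mul_mem X.mem (pw_mem X.base.mem k)

theorem aa_pow (k : ZMod r) : X.aa k ^ r = 1 := by
  rw [aa, (cr X.comm.symm k).mul_pow, X.pow, pw_pow X.base.h_pow,
    one_mul]

theorem aa_comm (k l : ZMod r) : Commute (X.aa k) (X.aa l) := by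
  have h1 : Commute x (pw h l) := cr X.comm.symm l
  have h2 : Commute (pw h k) x := cl X.comm k
  exact ((Commute.refl x).mul_right h1).mul_left (h2.mul_right (commute_pw (Commute.refl h) k l))

theorem pw_aa (k i : ZMod r) : pw (X.aa k) i = pw x i * pw h (k * i) := by
  rw [pw, aa, (cr X.comm.symm k).mul_pow, pw_mul X.base.h_pow]
  rfl

theorem t_aa (k : ZMod r) : t * X.aa k * t = (X.aa (-k))⁻¹ := by
  have h1 : t * pw h k * t = pw h k := by
    rw [(cr X.base.comm k).eq, mul_assoc, X.base.sq_t, mul_one]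
  rw [aa, aa, mul_inv_rev, ← pw_neg X.base.h_pow, neg_neg]
  calc t * (x * pw h k) * t = t * x * (1 : MulAut V) * pw h k * t := by group
    _ = t * x * (t * t) * pw h k * t := by rw [X.base.sq_t]
    _ = (t * x * t) * (t * pw h k * t) := by group
    _ = pw h k * x⁻¹ := by
      rw [X.inv, h1, ← (cl X.comm k).inv_right.eq]

theorem t_fx {k : ZMod r} {v : V} (hv : v ∈ fx (X.aa k)) : t v ∈ fx (X.aa (-k)) := by
  have h1 : t v ∈ fx (t * X.aa k * t) := by
    show t (X.aa k (t (t v))) = t v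
    rw [X.base.tt, mem_fx.1 hv]
  rw [X.t_aa] at h1
  have := mem_fx_inv h1
  rwa [inv_inv] at this

theorem sep {j k : ZMod r} (hjk : j ≠ k) {v : V} (hj : v ∈ fx (X.aa j)) (hk : v ∈ fx (X.aa k)) :
    v = 1 := by
  refine X.base.eq_one_of_fx_pw (sub_ne_zero.2 hjk) ?_
  have e : (pw h j) v = (pw h k) v := by
    refine x.injective ?_
    rw [← MulAut.mul_apply, ← MulAut.mul_apply]
    exact (mem_fx.1 hj).trans (mem_fx.1 hk).symm
  rw [mem_fx, sub_eq_neg_add, pw_add X.base.h_pow, MulAut.mul_apply, e, ← MulAut.mul_apply,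
    ← pw_add X.base.h_pow, neg_add_cancel, pw_zero, MulAut.one_apply]

theorem inj {k : ZMod r} (hk : k ≠ 0) {w : V} (hw : w ∈ fx (X.aa k)) (h0 : w * t w = 1) : w = 1 := by
  refine X.sep (j := k) (k := -k) (fun e => hk ?_) hw ?_
  · have h2 : (2 : ZMod r) * k = 0 := by rw [two_mul]; nth_rewrite 2 [e]; exact add_neg_cancel k
    exact (mul_eq_zero.1 h2).resolve_left X.base.two_ne
  · have h1 := X.t_fx hw
    rw [eq_inv_of_mul_eq_one_right h0] at h1
    simpa using (fx (X.aa (-k))).inv_mem h1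

theorem nm_other {j k : ZMod r} (hjk : j ≠ k) {z : V} (hz : z ∈ fx (X.aa j)) :
    nm (r := r) (X.aa k) z = 1 :=
  X.sep hjk (nm_fx (X.aa_comm k j) hz) (nm_mem_fx (X.aa_pow k) z)

theorem fx_h {k : ZMod r} {v : V} (hv : v ∈ fx (X.aa k)) : h v ∈ fx (X.aa k) := by
  have hc : Commute (X.aa k) h := (X.comm.symm).mul_left ((Commute.refl h).pow_left _)
  show X.aa k (h v) = h v
  rw [← MulAut.mul_apply, hc.eq, MulAut.mul_apply, mem_fx.1 hv]

/-- The map `w ↦ w t(w)` carries a non-trivial piece onto the fixed points of `t`. -/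
theorem surj {k : ZMod r} (hk : k ≠ 0) (W : Subgroup V) (hW : W ≤ fx (X.aa k))
    (hWh : ∀ w ∈ W, h w ∈ W) (hne : W ≠ ⊥) {p : V} (hp : t p = p) : ∃ w ∈ W, w * t w = p := by
  let π : V →* V := MonoidHom.mk' (fun v => v * t v) fun a b => by
    simp only [map_mul]; rw [mul_mul_mul_comm]
  have hc : ∀ v, t (h v) = h (t v) := fun v => by
    rw [← MulAut.mul_apply, X.base.comm.eq, MulAut.mul_apply]
  rcases X.base.irr (W.map π) (by
      rintro _ ⟨w, -, rfl⟩
      show t (w * t w) = w * t w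
      rw [map_mul, X.base.tt, mul_comm]) (by
      rintro _ ⟨w, hw, rfl⟩
      exact ⟨h w, hWh w hw, by show h w * t (h w) = h (w * t w); rw [map_mul, hc]⟩) with h0 | h0
  · refine absurd ((eq_bot_iff_forall _).2 fun w hw => X.inj hk (hW hw) ?_) hne
    exact mem_bot.1 (h0 ▸ (mem_map_of_mem π hw : π w ∈ W.map π))
  · obtain ⟨w, hw, hwp⟩ := h0 p hp
    exact ⟨w, hw, hwp⟩

theorem spanning (v : V) : ∏ l : ZMod r, nm (r := r) (X.aa l) v = v ^ r := by
  have hh : nm (r := r) h v = 1 := X.base.fpf _ (nm_mem_fx X.base.h_pow v)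
  have key := Coprime.prod_lines (M := V) r fun i j => (pw x i * pw h j) v
  have e1 : ∀ l : ZMod r, ∏ i : ZMod r, (pw x i * pw h (l * i)) v = nm (r := r) (X.aa l) v :=
    fun l => Finset.prod_congr rfl fun i _ => by rw [X.pw_aa]
  have e2 : ∏ j : ZMod r, (pw x (0 : ZMod r) * pw h j) v = 1 := by
    rw [← hh]; exact Finset.prod_congr rfl fun i _ => by rw [pw_zero, one_mul]
  have e3 : ∏ i : ZMod r, ∏ j : ZMod r, (pw x i * pw h j) v = 1 := by
    refine Finset.prod_eq_one fun i _ => ?_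
    show ∏ j : ZMod r, (pw x i) ((pw h j) v) = 1
    rw [← map_prod]
    show (pw x i) (nm (r := r) h v) = 1
    rw [hh, map_one]
  rw [e2, e3] at key
  simp only [e1, mul_one, pw_zero, MulAut.one_apply] at key
  exact key

/-- Some `x h^k`, `k ≠ 0`, has a non-trivial fixed point. -/
theorem exists_k : ∃ k : ZMod r, k ≠ 0 ∧ fx (X.aa k) ≠ ⊥ := by
  by_contra hno
  push Not at hno
  refine X.ne (MulEquiv.ext fun v => X.base.pow_r_injective ?_)
  rw [← map_pow, MulAut.one_apply, ← X.spanning v,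
    Finset.prod_eq_single (0 : ZMod r) (fun l _ hl => ?_) (by simp)]
  · have := nm_mem_fx (X.aa_pow 0) v
    exact (congrArg (fun f : MulAut V => f (nm (r := r) (X.aa 0) v)) X.aa_zero.symm).trans this
  · have := nm_mem_fx (X.aa_pow l) v
    rw [hno l hl, mem_bot] at this
    exact this

variable {k : ZMod r} (hk : k ≠ 0) (hW : fx (X.aa k) ≠ ⊥)
include hk hW

theorem fx_h_le : ∀ w ∈ fx (X.aa k), h w ∈ fx (X.aa k) := fun _ hw => X.fx_h hw

/-- On the fixed points of `x` the involution `t` is the inversion. -/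
theorem t_zero {v : V} (hv : v ∈ fx (X.aa 0)) : t v = v⁻¹ := by
  have h1 : t v ∈ fx (X.aa 0) := by
    have := X.t_fx hv
    rwa [neg_zero] at this
  obtain ⟨w, hw, hwp⟩ := X.surj hk _ le_rfl (X.fx_h_le hk hW) hW (p := v * t v)
    (by rw [map_mul, X.base.tt, mul_comm])
  have e := congrArg (nm (r := r) (X.aa k)) hwp
  rw [nm_mul, nm_of_fixed hw, X.nm_other (j := -k) ?_ (X.t_fx hw), mul_one,
    X.nm_other hk.symm ((fx _).mul_mem hv h1)] at e
  · have hw1 : w = 1 := X.base.pow_r_injective (e.trans (one_pow r).symm)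
    rw [hw1, map_one, mul_one] at hwp
    exact eq_inv_of_mul_eq_one_right hwp.symm
  · intro e'
    have h2 : (2 : ZMod r) * k = 0 := by rw [two_mul]; nth_rewrite 1 [← e']; exact neg_add_cancel k
    exact hk ((mul_eq_zero.1 h2).resolve_left X.base.two_ne)

/-- At most three lines have fixed points. -/
theorem eq_or_eq {l : ZMod r} (hl : fx (X.aa l) ≠ ⊥) : l = 0 ∨ l = k ∨ l = -k := by
  by_contra hno
  push Not at hno
  obtain ⟨h0, h1, h2⟩ := hno
  refine hl ((eq_bot_iff_forall _).2 fun z hz => X.inj h0 hz ?_)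
  obtain ⟨w, hw, hwp⟩ := X.surj hk _ le_rfl (X.fx_h_le hk hW) hW (p := z * t z)
    (by rw [map_mul, X.base.tt, mul_comm])
  have e := congrArg (nm (r := r) (X.aa k)) hwp
  rw [nm_mul, nm_mul, nm_of_fixed hw, X.nm_other (j := -k) ?_ (X.t_fx hw), X.nm_other h1 hz,
    X.nm_other (j := -l) ?_ (X.t_fx hz), mul_one, mul_one] at e
  · have hw1 : w = 1 := X.base.pow_r_injective (e.trans (one_pow r).symm)
    rw [hw1, map_one, mul_one] at hwp
    exact hwp.symm
  · exact fun e' => h2 (by rw [← e', neg_neg])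
  · intro e'
    have h3 : (2 : ZMod r) * k = 0 := by rw [two_mul]; nth_rewrite 1 [← e']; exact neg_add_cancel k
    exact hk ((mul_eq_zero.1 h3).resolve_left X.base.two_ne)

/-- An element of `C(h, x)` of order `r` is a scalar on each piece. -/
theorem exists_scalar {g : MulAut V} (hgh : Commute g h) (hgx : Commute g x) (hg : g ^ r = 1) :
    ∃ α : ZMod r, ∀ w ∈ fx (X.aa k), g w = (pw h α) w := by
  obtain ⟨v, hv, hv1⟩ : ∃ v ∈ fx (X.aa k), v ≠ 1 := by
    by_contra hno
    push Not at hno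
    exact hW ((eq_bot_iff_forall _).2 hno)
  have hga : Commute g (X.aa k) := hgx.mul_right (hgh.pow_right _)
  have hgW : ∀ w ∈ fx (X.aa k), g w ∈ fx (X.aa k) := fun w hw => by
    show X.aa k (g w) = g w
    rw [← MulAut.mul_apply, ← hga.eq, MulAut.mul_apply, mem_fx.1 hw]
  have hh : nm (r := r) h v = 1 := X.base.fpf _ (nm_mem_fx X.base.h_pow v)
  have hp : ∀ l : ZMod r, (g * pw h l) ^ r = 1 := fun l => by
    rw [(cr hgh l).mul_pow, hg, pw_pow X.base.h_pow, one_mul]
  have hWpw : ∀ (f : MulAut V), (∀ w ∈ fx (X.aa k), f w ∈ fx (X.aa k)) → ∀ n : ℕ,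
      ∀ w ∈ fx (X.aa k), (f ^ n) w ∈ fx (X.aa k) := by
    intro f hf n
    induction n with
    | zero => intro w hw; simpa using hw
    | succ n ih => intro w hw; rw [pow_succ, MulAut.mul_apply]; exact ih _ (hf w hw)
  obtain ⟨l, hl⟩ : ∃ l : ZMod r, nm (r := r) (g * pw h l) v ≠ 1 := by
    by_contra hno
    push Not at hno
    have key := Coprime.prod_lines (M := V) r fun i j => (pw g i * pw h j) v
    have e1 : ∀ l : ZMod r, ∏ i : ZMod r, (pw g i * pw h (l * i)) v = 1 := fun l => by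
      rw [← hno l]
      refine Finset.prod_congr rfl fun i _ => ?_
      rw [pw_mul X.base.h_pow]
      show (g ^ i.val * (pw h l) ^ i.val) v = ((g * pw h l) ^ i.val) v
      rw [← (cr hgh l).mul_pow]
    have e3 : ∏ i : ZMod r, ∏ j : ZMod r, (pw g i * pw h j) v = 1 := by
      refine Finset.prod_eq_one fun i _ => ?_
      show ∏ j : ZMod r, (pw g i) ((pw h j) v) = 1
      rw [← map_prod]
      show (pw g i) (nm (r := r) h v) = 1
      rw [hh, map_one]
    have e2 : ∏ j : ZMod r, (pw g (0 : ZMod r) * pw h j) v = 1 := by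
      rw [← hh]; exact Finset.prod_congr rfl fun i _ => by rw [pw_zero, one_mul]
    rw [e2, e3] at key
    simp only [e1, mul_one, pw_zero, MulAut.one_apply, Finset.prod_const_one] at key
    exact hv1 (X.base.pow_r_injective (key.symm.trans (one_pow r).symm))
  have hgl : ∀ w ∈ fx (X.aa k), (g * pw h l) w ∈ fx (X.aa k) := fun w hw =>
    hgW _ (hWpw h (fun _ h' => X.fx_h h') _ w hw)
  set W := fx (X.aa k) ⊓ fx (g * pw h l) with hWdef
  have hvW : nm (r := r) (g * pw h l) v ∈ W :=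
    mem_inf.2 ⟨Subgroup.prod_mem _ fun i _ => hWpw _ hgl i.val v hv, nm_mem_fx (hp l) v⟩
  have hWh : ∀ w ∈ W, h w ∈ W := by
    intro w hw
    obtain ⟨hw1, hw2⟩ := mem_inf.1 hw
    refine mem_inf.2 ⟨X.fx_h hw1, ?_⟩
    show (g * pw h l) (h w) = h w
    rw [← MulAut.mul_apply, ((hgh.mul_left ((Commute.refl h).pow_left _)) :
      Commute (g * pw h l) h).eq, MulAut.mul_apply, mem_fx.1 hw2]
  refine ⟨-l, fun w hw => ?_⟩
  obtain ⟨w', hw', e⟩ := X.surj hk W inf_le_left hWh
    (fun e => hl (mem_bot.1 (e ▸ hvW))) (p := w * t w) (by rw [map_mul, X.base.tt, mul_comm])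
  have hd : w' * w⁻¹ = 1 := by
    refine X.inj hk ((fx _).mul_mem (mem_inf.1 hw').1 ((fx _).inv_mem hw)) ?_
    rw [map_mul, map_inv, mul_mul_mul_comm, e, ← mul_inv, mul_inv_cancel]
  rw [mul_inv_eq_one] at hd
  subst hd
  have h2 : g ((pw h l) w') = w' := (mem_inf.1 hw').2
  refine (pw h l).injective ?_
  rw [← MulAut.mul_apply, ← MulAut.mul_apply, ← pw_add X.base.h_pow, add_neg_cancel, pw_zero,
    MulAut.one_apply]
  rw [← MulAut.mul_apply, (cr hgh l).eq] at h2
  exact h2

/-- The elements of order `r` of `C(h, x)` lie in `⟨x, h⟩`. -/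
theorem mem_A {g : MulAut V} (hgM : g ∈ M) (hgh : Commute g h) (hgx : Commute g x)
    (hg : g ^ r = 1) : ∃ i j : ZMod r, g = pw x i * pw h j := by
  have hk' : -k ≠ 0 := neg_ne_zero.2 hk
  obtain ⟨v, hv, hv1⟩ : ∃ v ∈ fx (X.aa k), v ≠ 1 := by
    by_contra hno
    push Not at hno
    exact hW ((eq_bot_iff_forall _).2 hno)
  have hW' : fx (X.aa (-k)) ≠ ⊥ := fun e => hv1 (by
    have h1 := X.t_fx hv
    rw [e, mem_bot] at h1
    rw [← X.base.tt v, h1, map_one])
  obtain ⟨α, hα⟩ := X.exists_scalar hk hW hgh hgx hg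
  obtain ⟨β, hβ⟩ := X.exists_scalar hk' hW' hgh hgx hg
  have hxk : ∀ (l : ZMod r), ∀ w ∈ fx (X.aa l), x w = (pw h (-l)) w := fun l w hw => by
    refine (pw h l).injective ?_
    rw [← MulAut.mul_apply, ← MulAut.mul_apply, ← pw_add X.base.h_pow, add_neg_cancel, pw_zero,
      MulAut.one_apply, ← (cr X.comm.symm l).eq]
    exact hw
  set a : ZMod r := (α - β) / (2 * k) with ha
  set b : ZMod r := -(α + β) / 2 with hb
  have ha1 : α - k * a + b = 0 := by
    have := X.base.two_ne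
    rw [ha, hb]; field_simp; ring
  have ha2 : β + k * a + b = 0 := by
    have := X.base.two_ne
    rw [ha, hb]; field_simp; ring
  set g' := g * (pw x a * pw h b) with hg'
  have hA : ∀ {f : MulAut V}, Commute f h → Commute f x → Commute f (pw x a * pw h b) :=
    fun h1 h2 => (h2.pow_right _).mul_right (h1.pow_right _)
  have hg'h : Commute g' h :=
    hgh.mul_left ((X.comm.symm.pow_left _).mul_left ((Commute.refl h).pow_left _))
  have hg'x : Commute g' x :=
    hgx.mul_left (((Commute.refl x).pow_left _).mul_left (X.comm.pow_left _))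
  have hxpw : ∀ (l : ZMod r), ∀ w ∈ fx (X.aa l), ∀ i : ZMod r,
      (pw x i) w = (pw h (-l * i)) w := by
    intro l w hw i
    rw [pw_mul X.base.h_pow]
    show (x ^ i.val) w = (pw h (-l) ^ i.val) w
    induction i.val with
    | zero => rfl
    | succ n ih =>
      rw [pow_succ', MulAut.mul_apply, ih, ← MulAut.mul_apply,
        ((cr X.comm.symm (-l)).pow_right n).eq, MulAut.mul_apply, hxk l w hw, ← MulAut.mul_apply,
        ← pow_succ]
  have htriv : ∀ (l γ : ZMod r), γ - l * a + b = 0 →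
      (∀ w ∈ fx (X.aa l), g w = (pw h γ) w) → ∀ w ∈ fx (X.aa l), g' w = w := by
    intro l γ e hγ w hw
    have hw' : (pw h b) w ∈ fx (X.aa l) := by
      show X.aa l ((pw h b) w) = (pw h b) w
      have hc : Commute (X.aa l) (pw h b) :=
        ((X.comm.symm.mul_left ((Commute.refl h).pow_left _)).pow_right _)
      rw [← MulAut.mul_apply, hc.eq, MulAut.mul_apply, mem_fx.1 hw]
    have hw'' : (pw x a) ((pw h b) w) ∈ fx (X.aa l) := by
      show X.aa l _ = _
      have hc : Commute (X.aa l) (pw x a) :=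
        (((Commute.refl x).mul_left (X.comm.pow_left _)).pow_right _)
      rw [← MulAut.mul_apply, hc.eq, MulAut.mul_apply, mem_fx.1 hw']
    rw [hg', MulAut.mul_apply, MulAut.mul_apply, hγ _ hw'', hxpw l _ hw' a, ← MulAut.mul_apply,
      ← MulAut.mul_apply, ← pw_add X.base.h_pow, ← pw_add X.base.h_pow,
      show γ + -l * a + b = 0 by linear_combination e, pw_zero, MulAut.one_apply]
  have h1 := htriv k α ha1 hα
  have h2 := htriv (-k) β (by linear_combination ha2) hβ
  have hg'M : g' ∈ M := mul_mem hgM (mul_mem (pw_mem X.mem a) (pw_mem X.base.mem b))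
  set i2 := t * g'⁻¹ * t * g' with hi2
  have hi2M : i2 ∈ M := mul_mem (X.base.conj _ (inv_mem hg'M)) hg'M
  have hti2 : t * i2 * t = i2⁻¹ := by
    have hti : t⁻¹ = t := inv_eq_of_mul_eq_one_right X.base.sq_t
    rw [hi2]
    simp only [mul_inv_rev, inv_inv, hti]
    calc t * (t * g'⁻¹ * t * g') * t = (t * t) * g'⁻¹ * t * g' * t := by group
      _ = g'⁻¹ * (t * (g' * t)) := by rw [X.base.sq_t]; group
  have h3 : ∀ l : ZMod r, ∀ w ∈ fx (X.aa l), i2 w = w := by
    intro l w hw
    by_cases hl : fx (X.aa l) = ⊥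
    · rw [hl, mem_bot] at hw; rw [hw, map_one]
    have hpm : ∀ m : ZMod r, (∀ u ∈ fx (X.aa m), g' u = u) → (∀ u ∈ fx (X.aa (-m)), g' u = u) →
        ∀ u ∈ fx (X.aa m), i2 u = u := by
      intro m e1 e2 u hu
      have h6 : g'⁻¹ (t u) = t u := mem_fx_inv (e2 _ (X.t_fx hu))
      rw [hi2, MulAut.mul_apply, MulAut.mul_apply, MulAut.mul_apply, e1 u hu, h6, X.base.tt]
    rcases X.eq_or_eq hk hW hl with e | e | e <;> rw [e] at hw
    · have hc : ∀ {f : MulAut V}, Commute f x → ∀ u ∈ fx (X.aa 0), f u ∈ fx (X.aa 0) := by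
        intro f hf u hu
        rw [X.aa_zero] at hu ⊢
        show x (f u) = f u
        rw [← MulAut.mul_apply, ← hf.eq, MulAut.mul_apply, mem_fx.1 hu]
      have hi2x : Commute i2 x := by
        have e1 : Commute (t * g'⁻¹ * t) (t * x * t) := by
          have e0 : Commute (t * g'⁻¹ * t⁻¹) (t * x * t⁻¹) :=
            (hg'x.inv_left).map (MulAut.conj t).toMonoidHom
          rwa [inv_eq_of_mul_eq_one_right X.base.sq_t] at e0
        rw [X.inv] at e1
        exact ((inv_inv x) ▸ e1.inv_right).mul_left hg'x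
      have h7 := congrArg (fun f : MulAut V => f w) hti2
      simp only [MulAut.mul_apply] at h7
      rw [X.t_zero hk hW hw, map_inv, map_inv, X.t_zero hk hW (hc hi2x w hw), inv_inv] at h7
      have h9 : (i2 * i2) w = w := by
        rw [MulAut.mul_apply, h7, ← MulAut.mul_apply, mul_inv_cancel, MulAut.one_apply]
      obtain ⟨n, hn⟩ : Odd (orderOf i2) :=
        X.base.odd.of_dvd_nat (Subgroup.orderOf_dvd_natCard M hi2M)
      have h10 := mem_fx_zpow (a := i2 * i2) h9 ((n + 1 : ℕ) : ℤ)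
      rw [zpow_natCast, ← pow_two, ← pow_mul, show 2 * (n + 1) = 2 * n + 1 + 1 by omega, pow_succ,
        ← hn, pow_orderOf_eq_one, one_mul] at h10
      exact h10
    · exact hpm k h1 h2 w hw
    · exact hpm (-k) h2 (by rw [neg_neg]; exact h1) w hw
  have hi21 : i2 = 1 := by
    refine MulEquiv.ext fun v => X.base.pow_r_injective ?_
    rw [← map_pow, MulAut.one_apply, ← X.spanning v, map_prod]
    exact Finset.prod_congr rfl fun l _ => h3 l _ (nm_mem_fx (X.aa_pow l) v)
  have hfix : Commute t g' := by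
    have e : t * g'⁻¹ * t = g'⁻¹ := eq_inv_of_mul_eq_one_left hi21
    have e' : t * g'⁻¹ = g'⁻¹ * t := by
      calc t * g'⁻¹ = t * g'⁻¹ * (t * t) := by rw [X.base.sq_t, mul_one]
        _ = t * g'⁻¹ * t * t := by group
        _ = g'⁻¹ * t := by rw [e]
    exact inv_inv g' ▸ (show Commute t g'⁻¹ from e').inv_right
  have hg'r : g' ^ r = 1 := by
    rw [hg', (hA hgh hgx).mul_pow, hg,
      (commute_pw X.comm.symm a b).mul_pow, pw_pow X.pow,
      pw_pow X.base.h_pow, one_mul, one_mul]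
  obtain ⟨i, hi⟩ := mem_zpowers_iff.1 (X.base.fixed g' hg'M hfix hg'r)
  have hg'1 : g' = 1 := by
    by_contra hne
    have ho : orderOf g' = r := orderOf_eq_prime hg'r hne
    have hh' : h ∈ zpowers g' := by
      have hle : zpowers g' ≤ zpowers h := zpowers_le.2 (hi ▸ zpow_mem (mem_zpowers h) i)
      rw [Subgroup.eq_of_le_of_card_ge hle (by rw [Nat.card_zpowers, Nat.card_zpowers, ho, X.base.ord])]
      exact mem_zpowers h
    obtain ⟨n, hn⟩ := mem_zpowers_iff.1 hh'
    refine hv1 (X.base.fpf v ?_)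
    rw [← hn]
    exact mem_fx_zpow (h1 v hv) n
  refine ⟨-a, -b, ?_⟩
  rw [pw_neg X.pow, pw_neg X.base.h_pow,
    ((commute_pw X.comm.symm a b).inv_inv).eq, ← mul_inv_rev]
  exact eq_inv_of_mul_eq_one_left hg'1

/-- An element of `⟨x, h⟩` with a non-trivial fixed point generates one of the three lines. -/
theorem cases_fx {i j : ZMod r} {v : V} (hv1 : v ≠ 1) (hv : v ∈ fx (pw x i * pw h j)) :
    (i = 0 ∧ j = 0) ∨ (i ≠ 0 ∧ (j = 0 ∨ j = k * i ∨ j = -(k * i))) := by
  by_cases hi : i = 0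
  · refine Or.inl ⟨hi, by_contra fun hj => hv1 (X.base.eq_one_of_fx_pw hj ?_)⟩
    rwa [hi, pw_zero, one_mul] at hv
  refine Or.inr ⟨hi, ?_⟩
  have h1 : v ∈ fx (X.aa (j * i⁻¹)) := by
    have h2 := mem_fx_zpow hv ((i⁻¹).val : ℤ)
    rw [zpow_natCast, (commute_pw X.comm.symm i j).mul_pow] at h2
    rw [aa]
    rwa [show pw x i ^ (i⁻¹).val = x by
        show pw (pw x i) i⁻¹ = x
        rw [← pw_mul X.pow, mul_inv_cancel₀ hi, pw_one X.pow],
      show pw h j ^ (i⁻¹).val = pw h (j * i⁻¹) from (pw_mul X.base.h_pow j i⁻¹).symm] at h2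
  rcases X.eq_or_eq hk hW (fun e => hv1 (mem_bot.1 (e ▸ h1))) with e | e | e
  · exact Or.inl ((mul_eq_zero.1 e).resolve_right (inv_ne_zero hi))
  · exact Or.inr (Or.inl (by rw [← e, mul_assoc, inv_mul_cancel₀ hi, mul_one]))
  · exact Or.inr (Or.inr (by rw [← neg_mul, ← e, mul_assoc, inv_mul_cancel₀ hi, mul_one]))

end Inv

end Cfsg.Agent.Lib.Walter.NoField.Three
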