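import Cfsg.Agent.Lib.Walter66.PSLFacts
import Cfsg.Agent.Lib.AutPSL.Basic

/-!
# Section Z, characteristic three: unipotent, diagonal and inverted elements of `SL(2,F)`

`w = !![0, 1; -1, 0]`; `-1` is a non-square in the field.  Owner: helper37.
-/

set_option autoImplicit false
set_option linter.unusedSimpArgs false

namespace Cfsg.Agent.Lib.Walter.NoField.Three

open Matrix
open scoped MatrixGroups

attribute [local simp] Matrix.SpecialLinearGroup.coe_mul

variable {F : Type} [Field F]

local notation "SL2" => Matrix.SpecialLinearGroup (Fin 2) F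
local notation "M2" => Matrix (Fin 2) (Fin 2) F
local notation "PSL2" => Matrix.ProjectiveSpecialLinearGroup (Fin 2) F

/-- Upper unitriangular. -/
def uMat (a : F) : SL2 := ⟨!![1, a; 0, 1], by simp [Matrix.det_fin_two_of]⟩

/-- Diagonal. -/
def hMat (c : Fˣ) : SL2 := ⟨!![(c : F), 0; 0, ((c⁻¹ : Fˣ) : F)], by simp [Matrix.det_fin_two_of]⟩

/-- The element inverting the diagonal. -/
def wMat : SL2 := ⟨!![0, 1; -1, 0], by simp [Matrix.det_fin_two_of]⟩

@[simp] theorem uMat_coe (a : F) : (uMat a : M2) = !![1, a; 0, 1] := rfl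

@[simp] theorem hMat_coe (c : Fˣ) : (hMat c : M2) = !![(c : F), 0; 0, ((c⁻¹ : Fˣ) : F)] := rfl

@[simp] theorem wMat_coe : (wMat (F := F) : M2) = !![0, 1; -1, 0] := rfl

theorem ext2 {s s' : SL2} (h00 : (s : M2) 0 0 = (s' : M2) 0 0) (h01 : (s : M2) 0 1 = (s' : M2) 0 1)
    (h10 : (s : M2) 1 0 = (s' : M2) 1 0) (h11 : (s : M2) 1 1 = (s' : M2) 1 1) : s = s' := by
  refine Subtype.ext (Matrix.ext fun i j => ?_)
  fin_cases i <;> fin_cases j <;> assumption

theorem uMat_add (a b : F) : uMat (a + b) = uMat a * uMat b := by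
  refine ext2 ?_ ?_ ?_ ?_ <;> simp [Matrix.mul_apply, Fin.sum_univ_two, add_comm]

theorem hMat_mul (a b : Fˣ) : hMat (a * b) = hMat a * hMat b := by
  refine ext2 ?_ ?_ ?_ ?_ <;> simp [Matrix.mul_apply, Fin.sum_univ_two, mul_comm]

theorem hMat_mul_uMat (c : Fˣ) (a : F) : hMat c * uMat a = uMat ((c : F) * c * a) * hMat c := by
  refine ext2 ?_ ?_ ?_ ?_ <;> simp [Matrix.mul_apply, Fin.sum_univ_two]
  field_simp

theorem wMat_mul_hMat (c : Fˣ) : wMat * hMat c = hMat c⁻¹ * wMat := by
  refine ext2 ?_ ?_ ?_ ?_ <;> simp [Matrix.mul_apply, Fin.sum_univ_two]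

theorem wMat_sq : (QuotientGroup.mk (wMat : SL2) : PSL2) * QuotientGroup.mk (wMat : SL2) = 1 := by
  rw [← QuotientGroup.mk_mul, ← QuotientGroup.mk_one]
  refine (Walter66.mk_eq_of_neg ?_).symm
  ext i j
  fin_cases i <;> fin_cases j <;> simp [Matrix.mul_apply, Fin.sum_univ_two]

/-- An upper triangular matrix is unitriangular times diagonal. -/
theorem exists_upper {s : SL2} (h : (s : M2) 1 0 = 0) :
    ∃ (a : F) (c : Fˣ), s = uMat a * hMat c := by
  have hd := s.det_coe
  rw [Matrix.det_fin_two, h, mul_zero, sub_zero] at hd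
  have h0 : (s : M2) 0 0 ≠ 0 := fun e => by rw [e, zero_mul] at hd; exact zero_ne_one hd
  refine ⟨(s : M2) 0 1 * (s : M2) 0 0, Units.mk0 _ h0, ext2 ?_ ?_ ?_ ?_⟩ <;>
    simp [Matrix.mul_apply, Fin.sum_univ_two, h]
  · rw [mul_assoc, mul_inv_cancel₀ h0, mul_one]
  · exact eq_inv_of_mul_eq_one_right hd

/-- The two lifts of an element of `PSL(2,F)`. -/
theorem entries {s s' : SL2} (h : (QuotientGroup.mk s : PSL2) = QuotientGroup.mk s') :
    (∀ i j, (s' : M2) i j = (s : M2) i j) ∨ ∀ i j, (s' : M2) i j = -(s : M2) i j := by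
  rcases Walter66.mk_eq_cases h with e | e
  · exact Or.inl fun i j => by rw [e]
  · exact Or.inr fun i j => by rw [e]; rfl

theorem entries_one {s : SL2} (h : (QuotientGroup.mk s : PSL2) = 1) :
    (s : M2) 0 1 = 0 ∧ (s : M2) 1 0 = 0 ∧ ((s : M2) 0 0 = 1 ∨ (s : M2) 0 0 = -1) := by
  rcases entries ((QuotientGroup.mk_one _).trans h.symm) with e | e <;>
    exact ⟨by simp [e], by simp [e], by simp [e]⟩

theorem uMat_inj {a : F} (h : (QuotientGroup.mk (uMat a) : PSL2) = 1) : a = 0 := by
  simpa using (entries_one h).1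

theorem hMat_eq_one {c : Fˣ} (h : (QuotientGroup.mk (hMat c) : PSL2) = 1) : c * c = 1 := by
  refine Units.ext ?_
  rcases (entries_one h).2.2 with e | e <;> simp at e <;> simp [e]

theorem hMat_of_sq {c : Fˣ} (h : c * c = 1) : (QuotientGroup.mk (hMat c) : PSL2) = 1 := by
  have hc : (c : F) * c = 1 := by rw [← Units.val_mul, h, Units.val_one]
  rw [← QuotientGroup.mk_one]
  rcases mul_self_eq_one_iff.1 hc with e | e
  · exact congrArg _ (ext2 (by simp [e]) (by simp) (by simp)
      (by simp [e]))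
  · refine (Walter66.mk_eq_of_neg ?_).symm
    ext i j
    fin_cases i <;> fin_cases j <;> simp [e]

/-- A conjugate of a unitriangular element is upper triangular only through the Borel subgroup. -/
theorem upper_of_conj {s s' : SL2} {a : F} (ha : a ≠ 0) (h' : (s' : M2) 1 0 = 0)
    (h : (QuotientGroup.mk (s * uMat a * s⁻¹) : PSL2) = QuotientGroup.mk s') : (s : M2) 1 0 = 0 := by
  have h10 : ((s * uMat a * s⁻¹ : SL2) : M2) 1 0 = 0 := by
    rcases entries h with e | e
    · rw [← e]; exact h'
    · have := e 1 0; rw [h', eq_comm, neg_eq_zero] at this; exact this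
  have hd := s.det_coe
  rw [Matrix.det_fin_two] at hd
  simp [Matrix.mul_apply, Fin.sum_univ_two, Matrix.SpecialLinearGroup.coe_inv, Matrix.adjugate_fin_two] at h10
  have : a * ((s : M2) 1 0 * (s : M2) 1 0) = 0 := by linear_combination -h10
  exact mul_self_eq_zero.1 ((mul_eq_zero.1 this).resolve_left ha)

/-- An element outside the Borel subgroup times unipotents is an involution. -/
theorem exists_involution {s : SL2} (h : (s : M2) 1 0 ≠ 0) :
    ∃ a b : F, (QuotientGroup.mk (uMat a * s * uMat b) : PSL2) *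
        QuotientGroup.mk (uMat a * s * uMat b) = 1 ∧
      (QuotientGroup.mk (uMat a * s * uMat b) : PSL2) ≠ 1 := by
  set a : F := -(s : M2) 0 0 / (s : M2) 1 0 with ha
  set b : F := -(s : M2) 1 1 / (s : M2) 1 0 with hb
  refine ⟨a, b, ?_, fun e => h ?_⟩
  · set r := uMat a * s * uMat b with hr
    have r00 : (r : M2) 0 0 = 0 := by
      simp [hr, Matrix.mul_apply, Matrix.vecMul, dotProduct, Fin.sum_univ_two, ha]; field_simp; ring
    have r11 : (r : M2) 1 1 = 0 := by
      simp [hr, Matrix.mul_apply, Matrix.vecMul, dotProduct, Fin.sum_univ_two, hb]; field_simp; ring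
    have hd := r.det_coe
    rw [Matrix.det_fin_two, r00, zero_mul, zero_sub] at hd
    rw [← QuotientGroup.mk_mul, ← QuotientGroup.mk_one]
    refine (Walter66.mk_eq_of_neg ?_).symm
    ext i j
    fin_cases i <;> fin_cases j <;>
      simp [Matrix.mul_apply, Fin.sum_univ_two, r00, r11] <;> linear_combination -hd
  · have := (entries_one e).2.1
    simpa [Matrix.mul_apply, Matrix.vecMul, dotProduct, Fin.sum_univ_two] using this

/-- The Borel subgroup has no involution. -/
theorem sq_eq_one_upper (h2 : (2 : F) ≠ 0) (hns : ∀ x : F, x * x ≠ -1) {s : SL2}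
    (h : (s : M2) 1 0 = 0) (hsq : (QuotientGroup.mk s : PSL2) * QuotientGroup.mk s = 1) :
    (QuotientGroup.mk s : PSL2) = 1 := by
  rw [← QuotientGroup.mk_mul] at hsq
  obtain ⟨h01, -, h00⟩ := entries_one hsq
  simp [Matrix.mul_apply, Fin.sum_univ_two, h] at h01 h00
  have hd := s.det_coe
  rw [Matrix.det_fin_two, h, mul_zero, sub_zero] at hd
  replace h00 : (s : M2) 0 0 * (s : M2) 0 0 = 1 := h00.resolve_right (hns _)
  have h11 : (s : M2) 1 1 = (s : M2) 0 0 := by linear_combination (s : M2) 0 0 * hd - (s : M2) 1 1 * h00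
  have hb : (2 : F) * ((s : M2) 0 0 * (s : M2) 0 1) = 0 := by
    rw [h11] at h01; linear_combination h01
  have hb' : (s : M2) 0 1 = 0 := by
    have := (mul_eq_zero.1 hb).resolve_left h2
    linear_combination (s : M2) 0 0 * this - (s : M2) 0 1 * h00
  rw [← QuotientGroup.mk_one]
  rcases mul_self_eq_one_iff.1 h00 with e | e
  · exact congrArg _ (ext2 (by simp [e]) (by simp [hb']) (by simp [h]) (by simp [h11, e]))
  · refine (Walter66.mk_eq_of_neg ?_).symm
    ext i j
    fin_cases i <;> fin_cases j <;> simp [e, hb', h, h11]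

/-- An element commuting with a diagonal one is diagonal. -/
theorem diag_of_comm (hns : ∀ x : F, x * x ≠ -1) {s : SL2} {c : Fˣ} (hc : c * c ≠ 1)
    (h : (QuotientGroup.mk s : PSL2) * QuotientGroup.mk (hMat c) =
      QuotientGroup.mk (hMat c) * QuotientGroup.mk s) :
    (s : M2) 0 1 = 0 ∧ (s : M2) 1 0 = 0 := by
  rw [← QuotientGroup.mk_mul, ← QuotientGroup.mk_mul] at h
  have hc0 : (c : F) ≠ 0 := c.ne_zero
  have h1 : (c : F) * c ≠ 1 := fun e => hc (Units.ext (by simpa using e))
  rcases entries h with e | e <;> have e01 := e 0 1 <;> have e10 := e 1 0 <;>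
    simp [Matrix.mul_apply, Fin.sum_univ_two] at e01 e10 <;> field_simp at e01 e10
  · constructor
    · by_contra hb; exact h1 (mul_left_cancel₀ hb (by linear_combination e01))
    · by_contra hb; exact h1 (mul_left_cancel₀ hb (by linear_combination -e10))
  · constructor
    · by_contra hb; exact hns (c : F) (mul_left_cancel₀ hb (by linear_combination e01))
    · by_contra hb; exact hns (c : F) (mul_left_cancel₀ hb (by linear_combination e10))

/-- In characteristic three an involution inverts no element of order three. -/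
theorem inverted_cube [CharP F 3] (hns : ∀ x : F, x * x ≠ -1) {e p : SL2}
    (he : (QuotientGroup.mk e : PSL2) * QuotientGroup.mk e = 1)
    (he1 : (QuotientGroup.mk e : PSL2) ≠ 1) (hp : (QuotientGroup.mk p : PSL2) ^ 3 = 1)
    (h : (QuotientGroup.mk e : PSL2) * QuotientGroup.mk p * QuotientGroup.mk e *
      QuotientGroup.mk p = 1) : (QuotientGroup.mk p : PSL2) = 1 := by
  have h3 : (3 : F) = 0 := by exact_mod_cast CharP.cast_eq_zero F 3
  have h2 : (2 : F) ≠ 0 := fun e2 => one_ne_zero (α := F) (by linear_combination h3 - e2)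
  -- lift `p` to a matrix of order three
  obtain ⟨q, hq, hq3⟩ : ∃ q : SL2, (QuotientGroup.mk q : PSL2) = QuotientGroup.mk p ∧
      ((q : M2) * q * q) = 1 := by
    rw [pow_succ, pow_two, ← QuotientGroup.mk_mul, ← QuotientGroup.mk_mul] at hp
    rcases Walter66.mk_eq_cases (((QuotientGroup.mk_one _).trans hp.symm)) with e1 | e1
    · exact ⟨p, rfl, by rw [← Matrix.SpecialLinearGroup.coe_mul,
        ← Matrix.SpecialLinearGroup.coe_mul, e1]; simp⟩
    · refine ⟨-p, (Walter66.mk_eq_of_neg (by simp)).symm, ?_⟩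
      have e2 : (p : M2) * p * p = -1 := by
        rw [← Matrix.SpecialLinearGroup.coe_mul, ← Matrix.SpecialLinearGroup.coe_mul, e1]; simp
      simp [e2]
  -- so it is one plus a nilpotent matrix
  set N : M2 := (q : M2) - 1 with hN
  have hN3 : N * N * N = 0 := by
    have : N * N * N = (q : M2) * q * q - 1 - (3 : ℕ) • ((q : M2) * q - q) := by
      rw [hN]; noncomm_ring
    rw [this, hq3, sub_self, zero_sub, neg_eq_zero, ← Nat.cast_smul_eq_nsmul F,
      CharP.cast_eq_zero, zero_smul]
  have hdet : N 0 0 * N 1 1 - N 0 1 * N 1 0 = 0 := by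
    rw [← Matrix.det_fin_two]
    simpa using congrArg Matrix.det hN3
  have htr : N 0 0 + N 1 1 = 0 := by
    have e0 := congrFun (congrFun hN3 0) 0
    have e1 := congrFun (congrFun hN3 1) 1
    simp [Matrix.mul_apply, Fin.sum_univ_two] at e0 e1
    refine pow_eq_zero_iff (n := 3) (by norm_num) |>.1 ?_
    linear_combination e0 + e1 + 3 * (N 0 0 + N 1 1) * hdet
  -- the involution lifts to a matrix of trace zero
  rw [← QuotientGroup.mk_mul] at he
  obtain ⟨e01, e10, -⟩ := entries_one he
  simp [Matrix.mul_apply, Fin.sum_univ_two] at e01 e10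
  have htre : (e : M2) 0 0 + (e : M2) 1 1 = 0 := by
    by_contra hne
    have hc : (e : M2) 1 0 = 0 := (mul_eq_zero.1 (show _ * ((e : M2) 0 0 + (e : M2) 1 1) = 0 by
      linear_combination e10)).resolve_right hne
    exact he1 (sq_eq_one_upper h2 hns hc (by rw [← QuotientGroup.mk_mul]; exact he))
  have de := e.det_coe
  rw [Matrix.det_fin_two] at de
  set x := (e : M2) 0 0 with hx
  set y := (e : M2) 0 1 with hy
  set z := (e : M2) 1 0 with hz
  have h11 : (e : M2) 1 1 = -x := by linear_combination htre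
  rw [h11] at de
  have hy0 : y ≠ 0 := fun e0 => hns x (by rw [e0] at de; linear_combination -de)
  have q00 : (q : M2) 0 0 = 1 + N 0 0 := by simp [hN]
  have q11 : (q : M2) 1 1 = 1 - N 0 0 := by
    rw [show (q : M2) 1 1 = 1 + N 1 1 by simp [hN]]; linear_combination htr
  have q01 : (q : M2) 0 1 = N 0 1 := by simp [hN]
  have q10 : (q : M2) 1 0 = N 1 0 := by simp [hN]
  rw [show N 1 1 = -N 0 0 by linear_combination htr] at hdet
  set a := N 0 0
  set b := N 0 1
  set c := N 1 0
  have h' : (QuotientGroup.mk (e * q * e) : PSL2) = QuotientGroup.mk q⁻¹ := by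
    rw [QuotientGroup.mk_inv, QuotientGroup.mk_mul, QuotientGroup.mk_mul, hq]
    exact eq_inv_of_mul_eq_one_left h
  have hk : y * (2 * a * x + b * z + c * y) = 0 := by
    rcases entries h' with he' | he'
    · exfalso
      have t0 := he' 0 0
      have t1 := he' 1 1
      simp [Matrix.mul_apply, Fin.sum_univ_two, Matrix.SpecialLinearGroup.coe_inv, Matrix.adjugate_fin_two, ← hx, ← hy, ← hz, h11, q00, q11, q01, q10] at t0 t1
      refine one_ne_zero (α := F) ?_
      linear_combination t0 + t1 + (-2) * de - h3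
    · have t := he' 0 1
      simp [Matrix.mul_apply, Fin.sum_univ_two, Matrix.SpecialLinearGroup.coe_inv, Matrix.adjugate_fin_two, ← hx, ← hy, ← hz, h11, q00, q11, q01, q10] at t
      linear_combination t - b * de
  have hk' := (mul_eq_zero.1 hk).resolve_left hy0
  have hb : b = 0 := by
    by_contra hb
    refine hns ((a * y - b * x) / b) ?_
    field_simp
    linear_combination (-(b * y)) * hk' - b ^ 2 * de - y ^ 2 * hdet
  have ha : a = 0 := mul_self_eq_zero.1 (by rw [hb] at hdet; linear_combination -hdet)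
  have hc : c = 0 := by
    rw [ha, hb] at hk'
    exact (mul_eq_zero.1 (show c * y = 0 by linear_combination hk')).resolve_right hy0
  rw [← hq, ← QuotientGroup.mk_one]
  exact congrArg _ (ext2 (by simp [q00, ha]) (by simp [q01, hb]) (by simp [q10, hc])
    (by simp [q11, ha]))

end Cfsg.Agent.Lib.Walter.NoField.Three
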