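import Cfsg.Agent.Lib.Walter.NoField.Local
import Cfsg.Agent.Lib.Walter.NoField.Centralizer.Model
import Cfsg.Agent.Lib.Walter.NoField.Three.Matrices

/-!
# Section Z, characteristic three: `U`, `H₀`, `B = U H₀` and `B F` in the centraliser of `t`

`lin c a x = u(a) h(x)` in `E₀`; `B = U H₀` is its range and `BF = B (fieldPart S)`.

* `mem_B_of_conj`, `mem_BF_of_odd`: an odd subgroup of `C(t)` over `U` lies in `B F`;
* `eq_t_of_commute_u`, `eq_t_of_commute_h`: `t` is the only involution of `C(t)` commuting with a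
  non-trivial element of `U` or of `H₀`;
* `inverted_eq_one`: an involution of `C(t)` other than `t` inverts no element of order three there.

Owner: helper37.
-/

set_option autoImplicit false
set_option linter.style.haveILetI false
set_option linter.unusedSectionVars false

universe u

namespace Cfsg.Agent.Lib.Walter.NoField.Cent.Chart

open Subgroup Cfsg.Agent.Lib.AutPSL Cfsg.Agent.Lib.Walter.NoField.Three
open scoped MatrixGroups

variable {G : Type u} [Group G] [Finite G] {S : Sylow 2 G} {t : G} {E E₀ : Subgroup G}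
  {F : Type} [Field F] [Fintype F] (c : Chart S t E E₀ F)

local notation "M2" => Matrix (Fin 2) (Fin 2) F
local notation "PSL2" => Matrix.ProjectiveSpecialLinearGroup (Fin 2) F

/-- The unipotent `u(a)`. -/
def uu (a : F) : G := c.emb (QuotientGroup.mk (uMat a))

/-- The diagonal `h(x)`. -/
def hh (x : Fˣ) : G := c.emb (QuotientGroup.mk (hMat x))

/-- The element `w` inverting the diagonal. -/
def ww : G := c.emb (QuotientGroup.mk wMat)

include c

theorem ctx : Ctx S t E E₀ := ⟨c.jr, c.ord, c.mem, c.cent⟩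

theorem sq_t : t * t = 1 := Walter66.sq_of_ord c.ord

theorem t_ne_one : t ≠ 1 := Walter66.ne_one_of_ord c.ord

theorem comm_t {e : G} (he : e ∈ E₀) : e * t = t * e := c.conf.mem_cent e (c.conf.le he)

theorem uu_add (a b : F) : c.uu (a + b) = c.uu a * c.uu b := by
  rw [uu, uu, uu, ← map_mul, ← QuotientGroup.mk_mul, uMat_add]

theorem uu_zero : c.uu 0 = 1 := by
  have h := c.uu_add 0 0
  rw [add_zero] at h
  exact mul_eq_left.1 h.symm

theorem uu_inv (a : F) : (c.uu a)⁻¹ = c.uu (-a) := by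
  rw [inv_eq_iff_mul_eq_one, ← c.uu_add, add_neg_cancel, c.uu_zero]

theorem uu_pow (a : F) (n : ℕ) : c.uu a ^ n = c.uu (n * a) := by
  induction n with
  | zero => simp [c.uu_zero]
  | succ n ih => rw [pow_succ, ih, ← c.uu_add]; push_cast; rw [add_mul, one_mul]

theorem uu_eq_one {a : F} : c.uu a = 1 ↔ a = 0 :=
  ⟨fun h => uMat_inj (c.emb_injective (h.trans (map_one _).symm)), fun h => h ▸ c.uu_zero⟩

theorem uu_injective : Function.Injective c.uu := fun a b h => by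
  rw [← sub_eq_zero, ← c.uu_eq_one, sub_eq_add_neg, c.uu_add, ← c.uu_inv, h, mul_inv_cancel]

theorem hh_mul (x y : Fˣ) : c.hh (x * y) = c.hh x * c.hh y := by
  rw [hh, hh, hh, ← map_mul, ← QuotientGroup.mk_mul, hMat_mul]

theorem hh_one : c.hh 1 = 1 := by
  have h := c.hh_mul 1 1
  rw [one_mul] at h
  exact mul_eq_left.1 h.symm

/-- The diagonal as a homomorphism. -/
def hhHom : Fˣ →* G where
  toFun := c.hh
  map_one' := c.hh_one
  map_mul' := c.hh_mul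

theorem hh_inv (x : Fˣ) : (c.hh x)⁻¹ = c.hh x⁻¹ := (map_inv c.hhHom x).symm

theorem hh_pow (x : Fˣ) (n : ℕ) : c.hh x ^ n = c.hh (x ^ n) := (map_pow c.hhHom x n).symm

theorem hh_eq_one {x : Fˣ} : c.hh x = 1 ↔ x * x = 1 :=
  ⟨fun h => hMat_eq_one (c.emb_injective (h.trans (map_one _).symm)),
    fun h => by rw [hh, hMat_of_sq h, map_one]⟩

theorem hh_conj_uu (x : Fˣ) (a : F) : c.hh x * c.uu a = c.uu ((x : F) * x * a) * c.hh x := by
  rw [hh, uu, uu, ← map_mul, ← map_mul, ← QuotientGroup.mk_mul, ← QuotientGroup.mk_mul,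
    hMat_mul_uMat]

theorem ww_conj_hh (x : Fˣ) : c.ww * c.hh x = c.hh x⁻¹ * c.ww := by
  rw [hh, hh, ww, ← map_mul, ← map_mul, ← QuotientGroup.mk_mul, ← QuotientGroup.mk_mul,
    wMat_mul_hMat]

theorem ww_mem : c.ww ∈ E₀ := c.emb_mem _
theorem uu_mem (a : F) : c.uu a ∈ E₀ := c.emb_mem _
theorem hh_mem (x : Fˣ) : c.hh x ∈ E₀ := c.emb_mem _

theorem ww_sq : c.ww * c.ww = 1 := by rw [ww, ← map_mul, wMat_sq, map_one]

theorem ww_ne_one : c.ww ≠ 1 := fun h => by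
  have h1 := (entries_one (c.emb_injective (h.trans (map_one _).symm))).1
  simp at h1

theorem ww_ne_t : c.ww ≠ t := fun h => c.conf.not_mem (h ▸ c.conf.le c.ww_mem)

/-- `U`. -/
def U : Subgroup G where
  carrier := Set.range c.uu
  one_mem' := ⟨0, c.uu_zero⟩
  mul_mem' := by rintro _ _ ⟨a, rfl⟩ ⟨b, rfl⟩; exact ⟨a + b, c.uu_add a b⟩
  inv_mem' := by rintro _ ⟨a, rfl⟩; exact ⟨-a, (c.uu_inv a).symm⟩

/-- `B = U H₀`. -/
def B : Subgroup G where
  carrier := {g | ∃ a x, g = c.uu a * c.hh x}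
  one_mem' := ⟨0, 1, by rw [c.uu_zero, c.hh_one, one_mul]⟩
  mul_mem' := by
    rintro _ _ ⟨a, x, rfl⟩ ⟨b, y, rfl⟩
    refine ⟨a + (x : F) * x * b, x * y, ?_⟩
    rw [c.uu_add, c.hh_mul, ← mul_assoc, mul_assoc (c.uu a) (c.hh x), c.hh_conj_uu]
    group
  inv_mem' := by
    rintro _ ⟨a, x, rfl⟩
    refine ⟨((x⁻¹ : Fˣ) : F) * (x⁻¹ : Fˣ) * -a, x⁻¹, ?_⟩
    rw [mul_inv_rev, c.hh_inv, c.uu_inv, c.hh_conj_uu]

theorem mem_U {g : G} : g ∈ c.U ↔ ∃ a, c.uu a = g := Iff.rfl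

theorem mem_B {g : G} : g ∈ c.B ↔ ∃ a x, g = c.uu a * c.hh x := Iff.rfl

theorem uu_mem_B (a : F) : c.uu a ∈ c.B := ⟨a, 1, by rw [c.hh_one, mul_one]⟩
theorem hh_mem_B (x : Fˣ) : c.hh x ∈ c.B := ⟨0, x, by rw [c.uu_zero, one_mul]⟩

theorem U_le_B : c.U ≤ c.B := by rintro _ ⟨a, rfl⟩; exact c.uu_mem_B a

theorem B_le : c.B ≤ E₀ := by
  rintro _ ⟨a, x, rfl⟩; exact mul_mem (c.uu_mem a) (c.hh_mem x)

theorem emb_mem_B {s : Matrix.SpecialLinearGroup (Fin 2) F} :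
    c.emb (QuotientGroup.mk s) ∈ c.B ↔ (s : M2) 1 0 = 0 := by
  constructor
  · rintro ⟨a, x, h⟩
    rw [uu, hh, ← map_mul, ← QuotientGroup.mk_mul] at h
    rcases entries (c.emb_injective h).symm with e | e <;> rw [e 1 0] <;>
      simp [Matrix.SpecialLinearGroup.coe_mul, Matrix.mul_apply,
        Fin.sum_univ_two]
  · intro h
    obtain ⟨a, x, rfl⟩ := exists_upper h
    exact ⟨a, x, by rw [uu, hh, ← map_mul, ← QuotientGroup.mk_mul]⟩

theorem conj_uu_mem_U {b : G} (hb : b ∈ c.B) (a : F) : b * c.uu a * b⁻¹ ∈ c.U := by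
  obtain ⟨a', x, rfl⟩ := hb
  rw [mul_inv_rev, mul_assoc (c.uu a'), c.hh_conj_uu]
  exact ⟨a' + (x : F) * x * a + -a', by rw [c.uu_add, c.uu_add, ← c.uu_inv]; group⟩

/-- An element of `E₀` carrying a non-trivial element of `U` into `B` lies in `B`. -/
theorem mem_B_of_conj {g : G} (hg : g ∈ E₀) {a : F} (ha : a ≠ 0)
    (h : g * c.uu a * g⁻¹ ∈ c.B) : g ∈ c.B := by
  obtain ⟨p, rfl⟩ := c.exists_emb hg
  obtain ⟨s, rfl⟩ := QuotientGroup.mk_surjective p
  rw [uu, ← map_inv, ← map_mul, ← map_mul, ← QuotientGroup.mk_inv, ← QuotientGroup.mk_mul,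
    ← QuotientGroup.mk_mul, c.emb_mem_B] at h
  exact c.emb_mem_B.2 (upper_of_conj ha h rfl)

/-! ## Characteristic three -/

variable [CharP F 3]

theorem card_eq : ∃ f : ℕ, Odd f ∧ Fintype.card F = 3 ^ f := by
  haveI : Fact (Nat.Prime 3) := ⟨Nat.prime_three⟩
  obtain ⟨f, -, hf⟩ := FiniteField.card F 3
  refine ⟨f, ?_, hf⟩
  by_contra hne
  obtain ⟨k, hk⟩ := Nat.not_odd_iff_even.1 hne
  have h := c.card_mod
  rw [hf, hk, ← two_mul, pow_mul, Nat.pow_mod] at h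
  norm_num at h

theorem hns : ∀ x : F, x * x ≠ -1 := by
  obtain ⟨f, ⟨k, rfl⟩, hf⟩ := c.card_eq
  intro x hx
  refine FiniteField.isSquare_neg_one_iff.1 ⟨x, hx.symm⟩ ?_
  rw [hf, pow_succ, pow_mul, Nat.mul_mod, Nat.pow_mod]
  norm_num

/-- `B` has no involution. -/
theorem eq_one_of_sq_B {b : G} (hb : b ∈ c.B) (h : b * b = 1) : b = 1 := by
  obtain ⟨p, rfl⟩ := c.exists_emb (c.B_le hb)
  obtain ⟨s, rfl⟩ := QuotientGroup.mk_surjective p
  rw [sq_eq_one_upper c.two_ne c.hns (c.emb_mem_B.1 hb)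
    (c.emb_injective (by rw [map_mul, h, map_one])), map_one]

/-- An odd subgroup of `E₀` over `U` lies in `B`. -/
theorem le_B_of_odd {X : Subgroup G} (hX : Odd (Nat.card X)) (hXE : X ≤ E₀) (hU : c.U ≤ X) :
    X ≤ c.B := by
  intro g hg
  by_contra hn
  obtain ⟨p, rfl⟩ := c.exists_emb (hXE hg)
  obtain ⟨s, rfl⟩ := QuotientGroup.mk_surjective p
  obtain ⟨a, b, h1, h2⟩ := exists_involution fun e => hn (c.emb_mem_B.2 e)
  have hm : c.emb (QuotientGroup.mk (uMat a * s * uMat b)) ∈ X := by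
    rw [QuotientGroup.mk_mul, QuotientGroup.mk_mul, map_mul, map_mul]
    exact mul_mem (mul_mem (hU ⟨a, rfl⟩) hg) (hU ⟨b, rfl⟩)
  refine h2 (c.emb_injective ((JRBal.eq_one_of_sq_odd hX hm ?_).trans (map_one _).symm))
  rw [← map_mul, h1, map_one]

/-- An involution of `C(t)` is `t` times one of `E₀`. -/
theorem exists_invol {j : G} (hjt : j * t = t * j) (hj : j * j = 1) :
    ∃ e ∈ E₀, e * e = 1 ∧ (j = e ∨ j = t * e) := by
  obtain ⟨e, he, h⟩ := c.conf.decomp j hjt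
  have he2 : e * e = 1 := by
    rcases h with rfl | rfl
    · exact hj
    · rw [show t * e * (t * e) = t * (e * t) * e by group, c.conf.mem_cent e he, ← mul_assoc,
        c.sq_t, one_mul] at hj
      exact hj
  haveI := c.cent.2.2.1
  have h1 : (⟨e, he⟩ : E) ^ (E₀.subgroupOf E).index ∈ E₀.subgroupOf E := Subgroup.pow_index_mem _ _
  obtain ⟨m, hm⟩ := c.cent.2.2.2.1
  rw [hm, pow_succ, pow_mul, show (⟨e, he⟩ : E) ^ 2 = 1 from Subtype.ext (by
    show e ^ 2 = 1; rw [pow_two, he2]), one_pow, one_mul] at h1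
  exact ⟨e, h1, he2, h⟩

/-- `t` is the only involution of `C(t)` centralising a non-trivial element of `U`. -/
theorem eq_t_of_commute_u {a : F} (ha : a ≠ 0) {j : G} (hjt : j * t = t * j) (hj : j * j = 1)
    (hju : j * c.uu a = c.uu a * j) : j = 1 ∨ j = t := by
  obtain ⟨e, he, he2, hje⟩ := c.exists_invol hjt hj
  have heu : e * c.uu a = c.uu a * e := by
    rcases hje with rfl | rfl
    · exact hju
    · rw [mul_assoc, ← mul_assoc (c.uu a), c.comm_t (c.uu_mem a), mul_assoc] at hju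
      exact mul_left_cancel hju
  have he1 : e = 1 := c.eq_one_of_sq_B
    (c.mem_B_of_conj he ha (by rw [heu, mul_inv_cancel_right]; exact c.uu_mem_B a)) he2
  subst he1
  rcases hje with rfl | rfl
  exacts [Or.inl rfl, Or.inr (mul_one t)]

/-- `t` is the only involution of `C(t)` centralising a non-trivial element of `H₀`. -/
theorem eq_t_of_commute_h {x : Fˣ} (hx : c.hh x ≠ 1) {j : G} (hjt : j * t = t * j)
    (hj : j * j = 1) (hju : j * c.hh x = c.hh x * j) : j = 1 ∨ j = t := by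
  obtain ⟨e, he, he2, hje⟩ := c.exists_invol hjt hj
  have heu : e * c.hh x = c.hh x * e := by
    rcases hje with rfl | rfl
    · exact hju
    · rw [mul_assoc, ← mul_assoc (c.hh x), c.comm_t (c.hh_mem x), mul_assoc] at hju
      exact mul_left_cancel hju
  obtain ⟨p, rfl⟩ := c.exists_emb he
  obtain ⟨s, rfl⟩ := QuotientGroup.mk_surjective p
  rw [hh, ← map_mul, ← map_mul] at heu
  have hd := diag_of_comm c.hns (fun h => hx (c.hh_eq_one.2 h)) (c.emb_injective heu)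
  have he1 := c.eq_one_of_sq_B (c.emb_mem_B.2 hd.2) he2
  rw [he1] at hje
  rcases hje with rfl | rfl
  exacts [Or.inl rfl, Or.inr (mul_one t)]

/-- An involution of `C(t)` other than `t` inverts no element of order three of `C(t)`. -/
theorem inverted_eq_one {j g : G} (hjt : j * t = t * j) (hj : j * j = 1) (hj1 : j ≠ 1)
    (hjt' : j ≠ t) (hgt : g * t = t * g) (hg : g ^ 3 = 1) (h : j * g * j * g = 1) : g = 1 := by
  obtain ⟨e, he, he2, hje⟩ := c.exists_invol hjt hj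
  have he1 : e ≠ 1 := fun e1 => by
    subst e1
    rcases hje with rfl | rfl
    exacts [hj1 rfl, hjt' (mul_one t)]
  have het := c.comm_t he
  have hge : e * g * e * g = 1 := by
    rcases hje with rfl | rfl
    · exact h
    · rw [show t * e * g * (t * e) * g = t * e * (g * t) * e * g by group, hgt,
        show t * e * (t * g) * e * g = t * (e * t) * g * e * g by group, het, ← mul_assoc, c.sq_t,
        one_mul] at h
      exact h
  have hgE : g ∈ E := c.conf.odd_mem hgt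
    ((show Odd 3 by decide).of_dvd_nat (orderOf_dvd_of_pow_eq_one hg))
  have hg0 : g ∈ E₀ := by
    have hei : e⁻¹ = e := inv_eq_of_mul_eq_one_right he2
    have h1 : e * g * e = g⁻¹ := eq_inv_of_mul_eq_one_left hge
    have h2 : e * (g * e * g⁻¹) ∈ E₀ := mul_mem he (c.conf.conj₀ g hgE e he)
    rw [show e * (g * e * g⁻¹) = e * g * e * g⁻¹ by group, h1,
      show g⁻¹ * g⁻¹ = g ^ 3 * (g⁻¹ * g⁻¹) by rw [hg, one_mul],
      show g ^ 3 * (g⁻¹ * g⁻¹) = g by group] at h2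
    exact h2
  obtain ⟨p, rfl⟩ := c.exists_emb hg0
  obtain ⟨q, rfl⟩ := c.exists_emb he
  obtain ⟨p, rfl⟩ := QuotientGroup.mk_surjective p
  obtain ⟨q, rfl⟩ := QuotientGroup.mk_surjective q
  have key := inverted_cube (e := q) (p := p) c.hns
    (c.emb_injective (by rw [map_mul, he2, map_one]))
    (fun e1 => he1 (by rw [e1, map_one]))
    (c.emb_injective (by rw [map_pow, hg, map_one]))
    (c.emb_injective (by rw [map_mul, map_mul, map_mul, hge, map_one]))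
  rw [key, map_one]

/-! ## `B F` -/

/-- The action of an element of the field part. -/
theorem exists_sigma {x : G} (hx : x ∈ fieldPart S) :
    ∃ σ : F ≃+* F, (∀ a, x * c.uu a * x⁻¹ = c.uu (σ a)) ∧
      (∀ y, x * c.hh y * x⁻¹ = c.hh (Units.map σ.toRingHom.toMonoidHom y)) ∧
      (σ = 1 → x = 1) := by
  have hxo := NoField.odd_orderOf_mem (odd_fieldPart S) hx
  obtain ⟨hxE, -, hxa, hxb, -⟩ := c.of_mem_centralizer (fieldPart_le_centralizer S hx) hxo
  obtain ⟨σ, hσ, -⟩ := c.exists_fieldAut (y := ⟨x, hxE⟩) hxo hxa hxb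
  have key : ∀ p, x * c.emb p * x⁻¹ = c.emb (fieldAut σ p) := fun p => by
    rw [← hσ]; exact (c.emb_act ⟨x, hxE⟩ p).symm
  refine ⟨σ, fun a => ?_, fun y => ?_, fun h1 => ?_⟩
  · rw [uu, key, fieldAut_mk, uu]
    refine congrArg _ (congrArg _ (Three.ext2 ?_ ?_ ?_ ?_)) <;> simp [coe_fieldSL]
  · rw [hh, key, fieldAut_mk, hh]
    refine congrArg _ (congrArg _ (Three.ext2 ?_ ?_ ?_ ?_)) <;> simp [coe_fieldSL]
  · exact congrArg Subtype.val (c.act_injective (a₁ := ⟨x, hxE⟩) (a₂ := 1)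
      (by rw [hσ, h1, map_one, map_one]))

theorem field_conj_B {x : G} (hx : x ∈ fieldPart S) {b : G} (hb : b ∈ c.B) :
    x * b * x⁻¹ ∈ c.B := by
  obtain ⟨σ, h1, h2, -⟩ := c.exists_sigma hx
  obtain ⟨a, y, rfl⟩ := hb
  rw [show x * (c.uu a * c.hh y) * x⁻¹ = x * c.uu a * x⁻¹ * (x * c.hh y * x⁻¹) by group, h1, h2]
  exact ⟨_, _, rfl⟩

/-- `B F`. -/
def BF : Subgroup G where
  carrier := {g | ∃ b ∈ c.B, ∃ x ∈ fieldPart S, g = b * x}
  one_mem' := ⟨1, one_mem _, 1, one_mem _, (one_mul 1).symm⟩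
  mul_mem' := by
    rintro _ _ ⟨b, hb, x, hx, rfl⟩ ⟨b', hb', x', hx', rfl⟩
    exact ⟨b * (x * b' * x⁻¹), mul_mem hb (c.field_conj_B hx hb'), x * x', mul_mem hx hx', by group⟩
  inv_mem' := by
    rintro _ ⟨b, hb, x, hx, rfl⟩
    refine ⟨x⁻¹ * b⁻¹ * x, ?_, x⁻¹, inv_mem hx, by group⟩
    simpa using c.field_conj_B (inv_mem hx) (inv_mem hb)

theorem B_le_BF : c.B ≤ c.BF := fun b hb => ⟨b, hb, 1, one_mem _, (mul_one b).symm⟩

theorem U_le_BF : c.U ≤ c.BF := c.U_le_B.trans c.B_le_BF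

theorem field_le_BF : fieldPart S ≤ c.BF := fun x hx => ⟨1, one_mem _, x, hx, (one_mul x).symm⟩

theorem BF_le_E : c.BF ≤ E := by
  rintro _ ⟨b, hb, x, hx, rfl⟩
  exact mul_mem (c.conf.le (c.B_le hb)) (c.ctx.fieldPart_le hx)

theorem comm_t_BF {g : G} (hg : g ∈ c.BF) : g * t = t * g := c.conf.mem_cent g (c.BF_le_E hg)

theorem BF_unique {b b' x x' : G} (hb : b ∈ c.B) (hb' : b' ∈ c.B) (hx : x ∈ fieldPart S)
    (hx' : x' ∈ fieldPart S) (h : b * x = b' * x') : b = b' ∧ x = x' := by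
  have h1 : x * x'⁻¹ ∈ fieldPart S ⊓ E₀ := mem_inf.2 ⟨mul_mem hx (inv_mem hx'), by
    rw [show x * x'⁻¹ = b⁻¹ * (b * x) * x'⁻¹ by group, h, show b⁻¹ * (b' * x') * x'⁻¹ = b⁻¹ * b' by
      group]
    exact mul_mem (inv_mem (c.B_le hb)) (c.B_le hb')⟩
  rw [c.ctx.fieldPart_inf, mem_bot, mul_inv_eq_one] at h1
  subst h1
  exact ⟨mul_right_cancel h, rfl⟩

theorem conj_U_BF {g : G} (hg : g ∈ c.BF) {u : G} (hu : u ∈ c.U) : g * u * g⁻¹ ∈ c.U := by
  obtain ⟨b, hb, x, hx, rfl⟩ := hg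
  obtain ⟨a, rfl⟩ := hu
  obtain ⟨σ, h1, -⟩ := c.exists_sigma hx
  rw [show b * x * c.uu a * (b * x)⁻¹ = b * (x * c.uu a * x⁻¹) * b⁻¹ by group, h1]
  exact c.conj_uu_mem_U hb _

/-- An odd subgroup of `C(t)` over `U` lies in `B F`. -/
theorem mem_BF_of_odd {X : Subgroup G} (hX : Odd (Nat.card X)) (hU : c.U ≤ X)
    (hXt : ∀ g ∈ X, g * t = t * g) : X ≤ c.BF := by
  have hXE : X ≤ E := fun g hg => c.conf.odd_mem (hXt g hg) (odd_orderOf_of_mem hX hg)
  have hB : X ⊓ E₀ ≤ c.B := c.le_B_of_odd (hX.of_dvd_nat (card_dvd_of_le inf_le_left)) inf_le_right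
    (le_inf hU fun _ h => c.B_le (c.U_le_B h))
  intro g hg
  obtain ⟨e, he, x, hx, rfl⟩ := c.ctx.exists_mul (hXE hg)
  obtain ⟨σ, h1, -⟩ := c.exists_sigma hx
  refine ⟨e, c.mem_B_of_conj he (one_ne_zero (α := F)) (hB (mem_inf.2 ⟨?_, ?_⟩)), x, hx, rfl⟩
  · have h := mul_mem (mul_mem hg (hU ⟨σ⁻¹ 1, rfl⟩)) (inv_mem hg)
    rwa [show e * x * c.uu (σ⁻¹ 1) * (e * x)⁻¹ = e * (x * c.uu (σ⁻¹ 1) * x⁻¹) * e⁻¹ by group, h1,
      show σ (σ⁻¹ 1) = 1 from σ.apply_symm_apply 1] at h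
  · exact mul_mem (mul_mem he (c.uu_mem _)) (inv_mem he)

theorem odd_B : Odd (Nat.card c.B) := by
  rw [← Nat.not_even_iff_odd, even_iff_two_dvd]
  intro h
  haveI : Fact (Nat.Prime 2) := ⟨Nat.prime_two⟩
  obtain ⟨⟨b, hb⟩, h2⟩ := exists_prime_orderOf_dvd_card' 2 h
  have hb2 : (⟨b, hb⟩ : c.B) ^ 2 = 1 := h2 ▸ pow_orderOf_eq_one _
  have := c.eq_one_of_sq_B hb (by rw [← pow_two]; exact congrArg Subtype.val hb2)
  subst this
  rw [show (⟨1, hb⟩ : c.B) = 1 from rfl, orderOf_one] at h2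
  omega

theorem odd_BF : Odd (Nat.card c.BF) := by
  refine Odd.of_dvd_nat (n := Nat.card c.B * Nat.card ↥(fieldPart S))
    (c.odd_B.mul (odd_fieldPart S)) (dvd_of_eq ?_)
  rw [← Nat.card_prod]
  refine (Nat.card_eq_of_bijective
    (fun z : c.B × ↥(fieldPart S) =>
      (⟨(z.1 : G) * z.2, z.1, z.1.2, z.2, z.2.2, rfl⟩ : c.BF)) ⟨fun z z' h => ?_, ?_⟩).symm
  · obtain ⟨h1, h2⟩ := c.BF_unique z.1.2 z'.1.2 z.2.2 z'.2.2 (congrArg Subtype.val h)
    exact Prod.ext (Subtype.ext h1) (Subtype.ext h2)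
  · rintro ⟨_, b, hb, x, hx, rfl⟩
    exact ⟨(⟨b, hb⟩, ⟨x, hx⟩), rfl⟩

/-- An element of `B F` centralising `U` lies in `U`. -/
theorem mem_U_of_centralizes {g : G} (hg : g ∈ c.BF) (h : ∀ a, g * c.uu a = c.uu a * g) :
    g ∈ c.U := by
  obtain ⟨b, ⟨a₀, y, rfl⟩, x, hx, rfl⟩ := hg
  obtain ⟨σ, h1, -, h3⟩ := c.exists_sigma hx
  have key : ∀ a, (y : F) * y * σ a = a := fun a => c.uu_injective (by
    have h' := mul_inv_eq_iff_eq_mul.2 (h a)
    rw [show c.uu a₀ * c.hh y * x * c.uu a * (c.uu a₀ * c.hh y * x)⁻¹ =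
        c.uu a₀ * (c.hh y * (x * c.uu a * x⁻¹) * (c.hh y)⁻¹) * (c.uu a₀)⁻¹ by group, h1,
      c.hh_conj_uu, mul_inv_cancel_right, c.uu_inv, ← c.uu_add, ← c.uu_add, add_assoc,
      add_comm _ (-a₀), ← add_assoc, add_neg_cancel, zero_add] at h'
    exact h')
  have hy := key 1
  rw [map_one, mul_one] at hy
  have hx1 : x = 1 := h3 (RingEquiv.ext fun a => by
    have := key a
    rw [hy, one_mul] at this
    exact this)
  rw [hx1, mul_one, c.hh_eq_one.2 (Units.ext (by simpa using hy)), mul_one]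
  exact ⟨a₀, rfl⟩

/-- A commutator `(b x) h(y) (b x)⁻¹ h(y)⁻¹` is conjugate to a diagonal element under `U` unless
`σ` fixes `y²`. -/
theorem U_mul_hh_conj (a : F) {y : Fˣ} (hy : (y : F) * y ≠ 1) :
    ∃ a', c.uu a * c.hh y = c.uu a' * c.hh y * (c.uu a')⁻¹ := by
  have hy1 : (1 : F) - (y : F) * y ≠ 0 := sub_ne_zero.2 (Ne.symm hy)
  refine ⟨a / (1 - (y : F) * y), ?_⟩
  rw [mul_assoc, c.uu_inv, c.hh_conj_uu, ← mul_assoc, ← c.uu_add]
  refine congrArg (fun v => c.uu v * c.hh y) ?_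
  linear_combination -(div_mul_cancel₀ a hy1)

end Cfsg.Agent.Lib.Walter.NoField.Cent.Chart
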