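import Cfsg.Agent.Lib.Walter.NoField.Three.Model
import Cfsg.Agent.Lib.NumberTheory.Zsigmondy

/-!
# Section Z, characteristic three: a diagonal element of primitive prime order

`Gen c r c₀` : `c₀` has prime order `r > |fieldPart S|` and `c₀²` generates the field.  Consequences:
the `h(c₀)`-invariant subgroups of `U` are trivial, a non-trivial element of the field part moves
`h(c₀)` inside `⟨h(c₀)⟩`, and a three-group of `B F` normalised by `h(c₀)` lies in `U`.

Owner: helper37.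
-/

set_option autoImplicit false
set_option linter.style.haveILetI false
set_option linter.unusedSectionVars false

universe u

namespace Cfsg.Agent.Lib.Walter.NoField.Cent.Chart

open Subgroup Cfsg.Agent.Lib.AutPSL Cfsg.Agent.Lib.Walter.NoField.Three
open scoped MatrixGroups

variable {G : Type u} [Group G] [Finite G] {S : Sylow 2 G} {t : G} {E E₀ : Subgroup G}
  {F : Type} [Field F] [Fintype F] (c : Chart S t E E₀ F)

/-- A generating element of primitive prime order. -/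
structure Gen (_ : Chart S t E E₀ F) (r : ℕ) (c₀ : Fˣ) : Prop where
  prime : r.Prime
  five : 5 ≤ r
  big : Nat.card ↥(fieldPart S) < r
  ord : orderOf c₀ = r
  gen : ∀ K : Subfield F, ((c₀ : F) * c₀) ∈ K → K = ⊤

variable [CharP F 3]

theorem exists_gen (h3 : 3 ∣ Nat.card ↥(fieldPart S)) : ∃ r c₀, c.Gen r c₀ := by
  haveI : Fact (Nat.Prime 3) := ⟨Nat.prime_three⟩
  obtain ⟨f, hfo, hf⟩ := c.card_eq
  have hdvd := c.ctx.card_fieldPart_dvd F (by rw [hf]; exact (show Odd 3 by decide).pow) c.φ hf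
  have hf3 : 3 ≤ f := Nat.le_of_dvd hfo.pos (h3.trans hdvd)
  obtain ⟨r, hr, hro⟩ := NumberTheory.exists_primitive_prime (q := 3) (n := f) (by norm_num)
    (by omega) (by rintro ⟨h, -⟩; omega) (by rintro ⟨h, -⟩; omega)
  haveI : Fact r.Prime := ⟨hr⟩
  have h3r : ((3 : ℕ) : ZMod r) ≠ 0 := by
    intro e
    rw [e, orderOf_eq_zero] at hro
    · omega
    · rintro h
      obtain ⟨n, hn, h0⟩ := isOfFinOrder_iff_pow_eq_one.1 h
      rw [zero_pow hn.ne'] at h0
      exact zero_ne_one h0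
  have hfr : f ∣ r - 1 := hro ▸ ZMod.orderOf_dvd_card_sub_one h3r
  have hrq : r ∣ 3 ^ f - 1 := by
    rw [← ZMod.natCast_eq_zero_iff, Nat.cast_sub (Nat.one_le_pow _ _ (by norm_num)), Nat.cast_pow, ← hro,
      pow_orderOf_eq_one, Nat.cast_one, sub_self]
  have hr5 : 5 ≤ r := by
    have h1 := Nat.le_of_dvd (by have := hr.two_le; omega) hfr
    rcases hr.eq_two_or_odd with h | h <;> omega
  have hbig : Nat.card ↥(fieldPart S) < r := by
    have h1 := Nat.le_of_dvd hfo.pos hdvd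
    have h2 := Nat.le_of_dvd (by have := hr.two_le; omega) hfr
    have := hr.two_le
    omega
  obtain ⟨c₀, hc₀⟩ := exists_prime_orderOf_dvd_card' (G := Fˣ) r
    (by rwa [Nat.card_units, Nat.card_eq_fintype_card, hf])
  refine ⟨r, c₀, hr, hr5, hbig, hc₀, fun K hK => ?_⟩
  letI : Fintype K := Fintype.ofFinite K
  have hKq : Fintype.card F = Fintype.card K ^ Module.finrank K F := Module.card_eq_pow_finrank
  obtain ⟨e, hef, he⟩ := (Nat.dvd_prime_pow Nat.prime_three).1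
    (show Fintype.card K ∣ 3 ^ f from hf ▸ hKq ▸ dvd_pow_self _ Module.finrank_pos.ne')
  have hc0 : (c₀ : F) * c₀ ≠ 0 := mul_ne_zero c₀.ne_zero c₀.ne_zero
  have hz : ((c₀ : F) * c₀) ^ (Fintype.card K - 1) = 1 := by
    have h1 := FiniteField.pow_card_sub_one_eq_one (⟨_, hK⟩ : K)
      (fun h => hc0 (congrArg Subtype.val h))
    exact congrArg Subtype.val h1
  have hpow : c₀ ^ (2 * (Fintype.card K - 1)) = 1 := Units.ext (by
    rw [Units.val_pow_eq_pow_val, Units.val_one, pow_mul, pow_two]; exact hz)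
  have hre : r ∣ 3 ^ e - 1 := by
    rw [← he]
    have := hc₀ ▸ orderOf_dvd_of_pow_eq_one hpow
    rcases hr.dvd_mul.1 this with h | h
    · have := Nat.le_of_dvd (by norm_num) h; omega
    · exact h
  have hfe : f ∣ e := by
    rw [← hro]
    refine orderOf_dvd_of_pow_eq_one ?_
    have h1 := (ZMod.natCast_eq_zero_iff (3 ^ e - 1) r).2 hre
    rw [Nat.cast_sub (Nat.one_le_pow _ _ (by norm_num)), Nat.cast_pow, Nat.cast_one, sub_eq_zero] at h1
    exact h1
  have he0 : e ≠ 0 := fun h => by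
    rw [h, pow_zero] at he
    have := Fintype.one_lt_card (α := K)
    omega
  have hfeq : e = f := le_antisymm hef (Nat.le_of_dvd (Nat.pos_of_ne_zero he0) hfe)
  refine SetLike.coe_injective (Set.eq_univ_of_forall fun z => ?_) |>.trans (Eq.refl _)
  have hb : Function.Bijective (Subtype.val : K → F) :=
    (Fintype.bijective_iff_injective_and_card _).2
      ⟨Subtype.val_injective, by rw [he, hfeq, hf]⟩
  obtain ⟨w, rfl⟩ := hb.2 z
  exact w.2

namespace Gen

variable {c} {r : ℕ} {c₀ : Fˣ} (Γ : c.Gen r c₀)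
include Γ

theorem sq_ne_one : c₀ * c₀ ≠ 1 := fun h => by
  have h1 := orderOf_dvd_of_pow_eq_one (show c₀ ^ 2 = 1 by rw [pow_two, h])
  rw [Γ.ord] at h1
  have := Nat.le_of_dvd (by norm_num) h1
  have := Γ.five
  omega

theorem hh_ne_one : c.hh c₀ ≠ 1 := fun h => Γ.sq_ne_one (c.hh_eq_one.1 h)

theorem pow_r : c₀ ^ r = 1 := Γ.ord ▸ pow_orderOf_eq_one c₀

theorem hh_pow_r : c.hh c₀ ^ r = 1 := by rw [c.hh_pow, Γ.pow_r, c.hh_one]

theorem orderOf_hh : orderOf (c.hh c₀) = r :=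
  haveI : Fact r.Prime := ⟨Γ.prime⟩
  orderOf_eq_prime Γ.hh_pow_r Γ.hh_ne_one

/-- The invariant subgroups of `U`. -/
theorem irr {W : Subgroup G} (hW : W ≤ c.U)
    (hinv : ∀ w ∈ W, c.hh c₀ * w * (c.hh c₀)⁻¹ ∈ W) : W = ⊥ ∨ c.U ≤ W := by
  rw [or_iff_not_imp_left]
  intro hne
  let A : AddSubgroup F :=
    { carrier := {a | c.uu a ∈ W}
      zero_mem' := by
        show c.uu 0 ∈ W
        rw [c.uu_zero]
        exact one_mem W
      add_mem' := fun {a b} ha hb => by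
        show c.uu (a + b) ∈ W
        rw [c.uu_add]
        exact mul_mem ha hb
      neg_mem' := fun {a} ha => by
        show c.uu (-a) ∈ W
        rw [← c.uu_inv]
        exact inv_mem ha }
  let R : Subring F :=
    { carrier := {s | ∀ a ∈ A, s * a ∈ A}
      zero_mem' := fun a _ => by rw [zero_mul]; exact A.zero_mem
      one_mem' := fun a ha => by rw [one_mul]; exact ha
      add_mem' := fun {s s'} hs hs' a ha => by rw [add_mul]; exact A.add_mem (hs a ha) (hs' a ha)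
      neg_mem' := fun {s} hs a ha => by rw [neg_mul]; exact A.neg_mem (hs a ha)
      mul_mem' := fun {s s'} hs hs' a ha => by rw [mul_assoc]; exact hs _ (hs' a ha) }
  have hRinv : ∀ s ∈ R, s⁻¹ ∈ R := by
    intro s hs
    by_cases h0 : s = 0
    · rw [h0, inv_zero]; exact R.zero_mem
    have : s⁻¹ = s ^ (Fintype.card F - 1 - 1) := by
      refine (eq_inv_of_mul_eq_one_left ?_).symm
      rw [← pow_succ, Nat.sub_add_cancel (by have := c.five; omega),
        FiniteField.pow_card_sub_one_eq_one s h0]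
    rw [this]
    exact pow_mem hs _
  have htop := Γ.gen { R with inv_mem' := hRinv } (fun a ha => by
    show c.uu _ ∈ W
    have h1 := hinv _ ha
    rwa [c.hh_conj_uu, mul_inv_cancel_right] at h1)
  obtain ⟨a₀, ha₀, ha₀0⟩ : ∃ a₀ ∈ A, a₀ ≠ 0 := by
    by_contra hno
    push Not at hno
    refine hne ((eq_bot_iff_forall _).2 fun w hw => ?_)
    obtain ⟨a, rfl⟩ := hW hw
    rw [hno a hw, c.uu_zero]
  rintro _ ⟨a, rfl⟩
  have h1 : a * a₀⁻¹ ∈ ({ R with inv_mem' := hRinv } : Subfield F) := by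
    rw [htop]; trivial
  have h2 := h1 a₀ ha₀
  rwa [inv_mul_cancel_right₀ ha₀0] at h2

/-- A field automorphism fixing `c₀²` is trivial. -/
theorem eq_one_of_fix {σ : F ≃+* F} (h : σ ((c₀ : F) * c₀) = (c₀ : F) * c₀) : σ = 1 := by
  have h1 := Γ.gen ((σ.toRingHom).eqLocusField (RingHom.id F)) h
  refine RingEquiv.ext fun z => ?_
  have : z ∈ (σ.toRingHom).eqLocusField (RingHom.id F) := h1 ▸ Subfield.mem_top z
  exact this

/-- The elements of order `r` of the multiplicative group. -/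
theorem mem_zpowers_of_pow {y : Fˣ} (hy : y ^ r = 1) : y ∈ zpowers c₀ := by
  by_cases hy1 : y = 1
  · rw [hy1]; exact one_mem _
  haveI : Fact r.Prime := ⟨Γ.prime⟩
  classical
  have h := IsCyclic.card_pow_eq_one_le (α := Fˣ) Γ.prime.pos
  have hsub : ((zpowers c₀ : Subgroup Fˣ) : Set Fˣ).toFinset ⊆
      Finset.univ.filter fun a : Fˣ => a ^ r = 1 := by
    intro a ha
    rw [Set.mem_toFinset, SetLike.mem_coe, mem_zpowers_iff] at ha
    obtain ⟨i, rfl⟩ := ha
    rw [Finset.mem_filter]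
    exact ⟨Finset.mem_univ _, by rw [← zpow_natCast, ← zpow_mul, mul_comm, zpow_mul, zpow_natCast,
      Γ.pow_r, one_zpow]⟩
  have heq := Finset.eq_of_subset_of_card_le hsub (by
    rw [Set.toFinset_card, ← Nat.card_eq_fintype_card]
    refine h.trans ?_
    rw [show Nat.card ((zpowers c₀ : Subgroup Fˣ) : Set Fˣ) = r from
      (Nat.card_zpowers c₀).trans Γ.ord])
  have hm : y ∈ Finset.univ.filter fun a : Fˣ => a ^ r = 1 :=
    Finset.mem_filter.2 ⟨Finset.mem_univ _, hy⟩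
  rw [← heq, Set.mem_toFinset] at hm
  exact hm

/-- A non-trivial element of the field part moves `h(c₀)` inside `⟨h(c₀)⟩`. -/
theorem moved {x : G} (hx : x ∈ fieldPart S) (hx1 : x ≠ 1) :
    ∃ (y : Fˣ) (n : ℕ), x * c.hh c₀ * x⁻¹ = c.hh y ∧ c.hh y = c.hh c₀ ^ n ∧
      (y * c₀⁻¹) * (y * c₀⁻¹) ≠ 1 := by
  obtain ⟨σ, -, h2, h3⟩ := c.exists_sigma hx
  set y := Units.map σ.toRingHom.toMonoidHom c₀ with hy
  have hyr : y ^ r = 1 := by rw [hy, ← map_pow, Γ.pow_r, map_one]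
  obtain ⟨n, hn⟩ := (isOfFinOrder_of_finite c₀).mem_powers_iff_mem_zpowers.2
    (Γ.mem_zpowers_of_pow hyr)
  refine ⟨y, n, h2 c₀, ?_, fun e => hx1 (h3 (Γ.eq_one_of_fix ?_))⟩
  · rw [c.hh_pow]; exact congrArg c.hh hn.symm
  · have e1 : y * y = c₀ * c₀ := by
      calc y * y = (y * c₀⁻¹) * (y * c₀⁻¹) * (c₀ * c₀) := by
            rw [mul_mul_mul_comm y c₀⁻¹ y c₀⁻¹, ← mul_inv, inv_mul_cancel_right]
        _ = c₀ * c₀ := by rw [e, one_mul]
    have e2 := congrArg Units.val e1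
    rw [hy] at e2
    simp only [Units.val_mul, Units.coe_map] at e2
    rw [map_mul]
    exact e2

omit Γ in
theorem eq_zero_of_mul_eq_one {a : F} {y : Fˣ} (h : c.uu a * c.hh y = 1) :
    a = 0 ∧ c.hh y = 1 := by
  have h1 : QuotientGroup.mk (uMat a * hMat y) = (1 : Matrix.ProjectiveSpecialLinearGroup (Fin 2) F) :=
    c.emb_injective (by rw [QuotientGroup.mk_mul, map_mul, map_one]; exact h)
  have h01 := (entries_one h1).1
  have ha : a = 0 := by
    simp [Matrix.SpecialLinearGroup.coe_mul, Matrix.mul_apply, Fin.sum_univ_two] at h01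
    exact h01
  rw [ha, c.uu_zero, one_mul] at h
  exact ⟨ha, h⟩

omit Γ in
theorem exists_pow_uh (a : F) (y : Fˣ) (n : ℕ) :
    ∃ a', (c.uu a * c.hh y) ^ n = c.uu a' * c.hh (y ^ n) := by
  induction n with
  | zero => exact ⟨0, by rw [pow_zero, pow_zero, c.uu_zero, c.hh_one, one_mul]⟩
  | succ n ih =>
    obtain ⟨a', ha'⟩ := ih
    refine ⟨a' + ((y ^ n : Fˣ) : F) * (y ^ n : Fˣ) * a, ?_⟩
    rw [pow_succ, ha', c.uu_add, pow_succ y, c.hh_mul, mul_assoc (c.uu a'), ← mul_assoc (c.hh (y ^ n)),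
      c.hh_conj_uu]
    group

omit Γ in
/-- A three-element of `B` lies in `U`. -/
theorem hh_eq_one_of_pow {a : F} {y : Fˣ} {k : ℕ} (h : (c.uu a * c.hh y) ^ 3 ^ k = 1) :
    c.hh y = 1 := by
  obtain ⟨a', ha'⟩ := exists_pow_uh (c := c) a y (3 ^ k)
  rw [ha'] at h
  have h1 := c.hh_eq_one.1 (eq_zero_of_mul_eq_one h).2
  rw [c.hh_eq_one]
  refine Units.ext ?_
  haveI : Fact (Nat.Prime 3) := ⟨Nat.prime_three⟩
  refine (iterateFrobenius F 3 k).injective ?_
  rw [Units.val_one, map_one, iterateFrobenius_def, Units.val_mul, mul_pow, ← Units.val_pow_eq_pow_val,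
    ← Units.val_mul, h1, Units.val_one]

/-- A three-group of `B F` normalised by `h(c₀)` lies in `U`. -/
theorem le_U {W : Subgroup G} (hW : IsPGroup 3 W) (hBF : W ≤ c.BF)
    (hinv : ∀ w ∈ W, c.hh c₀ * w * (c.hh c₀)⁻¹ ∈ W) : W ≤ c.U := by
  intro g hg
  obtain ⟨b, hb, x, hx, rfl⟩ := hBF hg
  obtain ⟨a, y, rfl⟩ := hb
  have hx1 : x = 1 := by
    by_contra hx1
    obtain ⟨z, n, hz, -, hne⟩ := Γ.moved hx hx1
    have hcom : c.hh c₀ * (c.uu a * c.hh y * x) * (c.hh c₀)⁻¹ * (c.uu a * c.hh y * x)⁻¹ =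
        c.uu ((c₀ : F) * c₀ * a + ((c₀ * z⁻¹ : Fˣ) : F) * (c₀ * z⁻¹ : Fˣ) * -a) *
          c.hh (c₀ * z⁻¹) := by
      have e1 : c.hh c₀ * (c.uu a * c.hh y * x) * (c.hh c₀)⁻¹ * (c.uu a * c.hh y * x)⁻¹ =
          c.hh c₀ * c.uu a * c.hh y * (x * (c.hh c₀)⁻¹ * x⁻¹) * (c.hh y)⁻¹ * (c.uu a)⁻¹ := by group
      have e2 : x * (c.hh c₀)⁻¹ * x⁻¹ = (c.hh z)⁻¹ := by rw [← hz]; group
      rw [e1, e2, c.hh_conj_uu, c.hh_inv, c.hh_inv, c.uu_inv, mul_assoc _ (c.hh c₀) (c.hh y),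
        ← c.hh_mul, mul_assoc _ (c.hh _) (c.hh z⁻¹), ← c.hh_mul, mul_assoc _ (c.hh _) (c.hh y⁻¹),
        ← c.hh_mul, show c₀ * y * z⁻¹ * y⁻¹ = c₀ * z⁻¹ by
          rw [mul_comm c₀ y, mul_assoc y, mul_comm y, mul_inv_cancel_right],
        mul_assoc _ (c.hh (c₀ * z⁻¹)), c.hh_conj_uu, c.uu_add]
      group
    have hm := mul_mem (hinv _ hg) (inv_mem hg)
    rw [hcom] at hm
    obtain ⟨k, hk⟩ := hW ⟨_, hm⟩
    have h0 := hh_eq_one_of_pow (c := c) (k := k) (congrArg Subtype.val hk)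
    refine hne ?_
    have h1 := c.hh_eq_one.1 h0
    calc z * c₀⁻¹ * (z * c₀⁻¹) = (c₀ * z⁻¹ * (c₀ * z⁻¹))⁻¹ := by
          simp only [mul_inv_rev, inv_inv]
      _ = 1 := by rw [h1, inv_one]
  rw [hx1, mul_one] at hg ⊢
  obtain ⟨k, hk⟩ := hW ⟨_, hg⟩
  rw [hh_eq_one_of_pow (c := c) (k := k) (congrArg Subtype.val hk), mul_one]
  exact ⟨a, rfl⟩

end Gen

end Cfsg.Agent.Lib.Walter.NoField.Cent.Chart
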