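import Cfsg.Agent.Lib.Walter.NoField.Three.Involutions
import Cfsg.Agent.Lib.Walter.NoField.Three.Primitive
import Cfsg.Agent.Lib.Walter.JRBalance.ZJ
import Cfsg.Agent.Lib.BenderOne.LocalTools

/-!
# Section Z, characteristic three: the parabolic subgroup

* `normalizes_zj`: in an odd `L ≥ U` normalised by `t`, the fixed points of `t` normalise `Z(J(P))`,
  `P` a `t`-invariant Sylow 3-subgroup;
* `exists_parabolic`: a Sylow 3-subgroup `P` of `G` with `N(Z(J(P))) = L⟨t⟩`, `B F ≤ L`.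

Owner: helper37.
-/

set_option autoImplicit false
set_option linter.style.haveILetI false
set_option linter.unusedSectionVars false

universe u

namespace Cfsg.Agent.Lib.Walter.NoField.Cent.Chart

open Subgroup Cfsg.Agent.Lib.AutPSL
open Cfsg.Agent.Lib.BenderOne20 (SylowIn)
open scoped MatrixGroups

variable {G : Type u} [Group G] [Finite G] {S : Sylow 2 G} {t : G} {E E₀ : Subgroup G}
  {F : Type} [Field F] [Fintype F] (c : Chart S t E E₀ F) [CharP F 3]

include c

theorem isPGroup_U : IsPGroup 3 c.U := by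
  rintro ⟨g, a, rfl⟩
  refine ⟨1, Subtype.ext ?_⟩
  show c.uu a ^ 3 ^ 1 = 1
  rw [pow_one, c.uu_pow, CharP.cast_eq_zero, zero_mul, c.uu_zero]

theorem mem_normalizer_U {g : G} (hg : g ∈ c.BF) : g ∈ normalizer (c.U : Set G) :=
  mem_normalizer_fintype fun _ hu => c.conj_U_BF hg hu

theorem t_mem_normalizer_of_le {W : Subgroup G} (hW : ∀ g ∈ W, g * t = t * g) :
    t ∈ normalizer (W : Set G) :=
  centralizer_le_normalizer _ (mem_centralizer_iff.2 fun g hg => hW g hg)

theorem t_mem_normalizer_U : t ∈ normalizer (c.U : Set G) :=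
  c.t_mem_normalizer_of_le fun _ hg => c.comm_t_BF (c.U_le_BF hg)

theorem t_inv : t⁻¹ = t := inv_eq_of_mul_eq_one_right c.sq_t

/-- The fixed points of `t` normalise `Z(J(P))`. -/
theorem normalizes_zj {L P : Subgroup G} (hL : Odd (Nat.card L)) (htL : t ∈ normalizer (L : Set G))
    (hU : c.U ≤ L) (hP : SylowIn 3 P L) (htP : t ∈ normalizer (P : Set G)) {g : G} (hg : g ∈ L)
    (hgt : g * t = t * g) : g ∈ normalizer (Cfsg.centerThompsonAOf P : Set G) := by
  haveI : Fact (Nat.Prime 3) := ⟨Nat.prime_three⟩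
  haveI : Group.IsSolvable ↥L := OddOrder.FeitThompson.isSolvable_of_odd_card hL
  obtain ⟨S', hS'⟩ := BenderOne.LocalTools.exists_sylow hP
  have hc : centralizer ((Cfsg.pCore 3 (↥L ⧸ Cfsg.pPrimeCore 3 ↥L) : Subgroup _) :
      Set (↥L ⧸ Cfsg.pPrimeCore 3 ↥L)) ≤ Cfsg.pCore 3 (↥L ⧸ Cfsg.pPrimeCore 3 ↥L) :=
    PSolvable.centralizer_pCore_le
      (PSolvable.isPSolvable_quotient PSolvable.isPSolvable_of_isSolvable _)
      (Cores.pPrimeCore_quotient_pPrimeCore 3)
  obtain ⟨T⟩ : Nonempty (Sylow 2 ↥L) := inferInstance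
  haveI : Fact (Nat.Prime 2) := ⟨Nat.prime_two⟩
  have hT : Subsingleton T := by
    rw [← Finite.card_le_one_iff_subsingleton, T.card_eq_multiplicity,
      Nat.factorization_eq_zero_of_not_dvd
        (fun h2 => (Nat.not_even_iff_odd.2 hL) (even_iff_two_dvd.2 h2)), pow_zero]
  have hzj := JRBal.zj_sup (p := 3) (by norm_num)
    (PLocal.noSLTwo_of_abelian_sylow_two (by norm_num) T ⟨⟨fun _ _ => Subsingleton.elim _ _⟩⟩) hc S'
  set D := Balance.coreIn 3 L with hD
  set Z := Cfsg.centerThompsonAOf P with hZ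
  have hgmem : (⟨g, hg⟩ : L) ∈ Cfsg.pPrimeCore 3 ↥L ⊔
      normalizer (Cfsg.centerThompsonAOf (S' : Subgroup L) : Set L) := hzj ▸ mem_top _
  rw [sup_comm] at hgmem
  obtain ⟨n', hn', d', hd', he⟩ := Coprime.exists_mul_of_mem_sup
    (le_top.trans_eq (normalizer_eq_top_iff.2 inferInstance).symm) hgmem
  have hnZ : (n' : G) ∈ normalizer (Z : Set G) := by
    rw [hZ, ← hS', ← ZJ.map_centerThompsonAOf L.subtype L.subtype_injective]
    exact le_normalizer_map L.subtype ⟨n', hn', rfl⟩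
  set n : G := (n' : G) with hn
  set d : G := (d' : G) with hd
  have hgd : g = n * d := congrArg Subtype.val he
  have hdD : d ∈ D := mem_map_of_mem _ hd'
  have htD : t ∈ normalizer (D : Set G) := by
    rw [mem_normalizer_iff_map_conj_eq] at htL ⊢
    rw [hD]
    exact (Balance.map_coreIn (MulAut.conj t) L).trans (congrArg (Balance.coreIn 3) htL)
  have htZ : t ∈ normalizer (Z : Set G) := ZJ.normalizer_le_normalizer_centerThompsonA P htP
  have hDfix : ∀ y ∈ D, y * t = t * y → y = 1 := by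
    intro y hy hyt
    have hyL : y ∈ L := Balance.coreIn_le L hy
    set X := L ⊓ centralizer ({t} : Set G) with hX
    have hXBF : X ≤ c.BF := c.mem_BF_of_odd (hL.of_dvd_nat (card_dvd_of_le inf_le_left))
      (le_inf hU fun u hu => mem_centralizer_singleton_iff.2 (c.comm_t_BF (c.U_le_BF hu)))
      (fun z hz => mem_centralizer_singleton_iff.1 (mem_inf.1 hz).2)
    have hyBF : y ∈ c.BF := hXBF (mem_inf.2 ⟨hyL, mem_centralizer_singleton_iff.2 hyt⟩)
    have hyU : y ∈ c.U := by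
      refine c.mem_U_of_centralizes hyBF fun a => ?_
      have h1 : y * c.uu a * y⁻¹ * (c.uu a)⁻¹ ∈ D ⊓ c.U := by
        refine mem_inf.2 ⟨?_, mul_mem (c.conj_U_BF hyBF ⟨a, rfl⟩) (inv_mem ⟨a, rfl⟩)⟩
        rw [show y * c.uu a * y⁻¹ * (c.uu a)⁻¹ = y * (c.uu a * y⁻¹ * (c.uu a)⁻¹) by group]
        exact mul_mem hy ((mem_normalizer_iff.1 (Balance.le_normalizer_coreIn L (hU ⟨a, rfl⟩)) _).1
          (inv_mem hy))
      rw [disjoint_iff.1 (Transfer.PResidual.disjoint_of_not_dvd (p := 3)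
        (Balance.not_dvd_card_coreIn L) c.isPGroup_U), mem_bot, mul_inv_eq_one] at h1
      exact mul_inv_eq_iff_eq_mul.1 h1
    have h2 : y ∈ D ⊓ c.U := mem_inf.2 ⟨hy, hyU⟩
    rwa [disjoint_iff.1 (Transfer.PResidual.disjoint_of_not_dvd (p := 3)
      (Balance.not_dvd_card_coreIn L) c.isPGroup_U), mem_bot] at h2
  -- the `D`-part of a fixed element normalises `Z`
  have hti := c.t_inv
  have hd2 : t * d * t ∈ D := by
    have := (mem_normalizer_iff.1 htD d).1 hdD
    rwa [hti] at this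
  have hfix : t * g * t = g := by rw [mul_assoc, hgt, ← mul_assoc, c.sq_t, one_mul]
  set e := (t * d * t) * d⁻¹ with he'
  have heN : e ∈ normalizer (Z : Set G) := by
    have h1 : n * d = (t * n * t) * (t * d * t) := by
      rw [show t * n * t * (t * d * t) = t * n * (t * t) * d * t by group, c.sq_t, mul_one,
        mul_assoc t n d, ← hgd, hfix]
    have h2 : e = (t * n * t)⁻¹ * n := by
      calc e = (t * n * t)⁻¹ * ((t * n * t) * (t * d * t)) * d⁻¹ := by rw [he']; group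
        _ = (t * n * t)⁻¹ * (n * d) * d⁻¹ := by rw [h1]
        _ = _ := by group
    rw [h2]
    exact mul_mem (inv_mem (mul_mem (mul_mem htZ hnZ) htZ)) hnZ
  have heD : e ∈ D := mul_mem hd2 (inv_mem hdD)
  obtain ⟨k, hk⟩ : Odd (orderOf e) :=
    hL.of_dvd_nat (Subgroup.orderOf_dvd_natCard L (Balance.coreIn_le L heD))
  set s := e ^ (k + 1) with hs
  have hss : s * s = e := by
    rw [hs, ← pow_add, show k + 1 + (k + 1) = 2 * k + 1 + 1 by omega, pow_succ, ← hk,
      pow_orderOf_eq_one, one_mul]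
  have hte : t * e * t = e⁻¹ := by
    rw [he']
    simp only [mul_inv_rev, inv_inv, hti]
    calc t * (t * d * t * d⁻¹) * t = (t * t) * d * t * d⁻¹ * t := by group
      _ = d * (t * d⁻¹ * t) := by rw [c.sq_t]; group
      _ = _ := by group
  have hts : t * s * t = s⁻¹ := by
    have h1 : t * e * t⁻¹ = e⁻¹ := by rw [hti]; exact hte
    have h2 := congrArg (· ^ (k + 1)) h1
    simp only [inv_pow] at h2
    rw [conj_pow, hti] at h2
    exact h2
  have hsd : s * d = 1 := by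
    refine hDfix _ (mul_mem (pow_mem heD _) hdD) ?_
    have h1 : t * (s * d) * t = s * d := by
      calc t * (s * d) * t = t * s * 1 * d * t := by group
        _ = t * s * (t * t) * d * t := by rw [c.sq_t]
        _ = (t * s * t) * ((t * d * t) * d⁻¹) * d := by group
        _ = s⁻¹ * (s * s) * d := by rw [hts, ← he', hss]
        _ = s * d := by group
    calc s * d * t = t * (s * d) * t * t := by rw [h1]
      _ = t * (s * d) := by rw [mul_assoc, c.sq_t, mul_one]
  have hdN : d ∈ normalizer (Z : Set G) := by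
    rw [eq_inv_of_mul_eq_one_right hsd]
    exact inv_mem (pow_mem heN _)
  rw [hgd]
  exact mul_mem hnZ hdN

/-- The conditions on the three-group. -/
def Good (P : Subgroup G) : Prop :=
  IsPGroup 3 P ∧ c.U ≤ P ∧ t ∈ normalizer (P : Set G) ∧
    c.BF ≤ normalizer (Cfsg.centerThompsonAOf P : Set G)

theorem exists_good : ∃ P, c.Good P := by
  haveI : Fact (Nat.Prime 3) := ⟨Nat.prime_three⟩
  have ht := c.t_mem_normalizer_of_le (W := c.BF) fun g hg => c.comm_t_BF hg
  obtain ⟨P, hP, hUP, htP⟩ := BenderOne.LocalTools.exists_invariant (p := 3) c.ord ht c.odd_BF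
    c.U_le_BF c.isPGroup_U c.t_mem_normalizer_U
  exact ⟨P, hP.isPGroup, hUP, htP, fun g hg =>
    c.normalizes_zj c.odd_BF ht c.U_le_BF hP htP hg (c.comm_t_BF hg)⟩

variable {r : ℕ} {c₀ : Fˣ} (Γ : c.Gen r c₀) {P : Subgroup G} (hP : c.Good P)
include Γ hP

theorem zj_ne_bot : Cfsg.centerThompsonAOf P ≠ ⊥ := by
  haveI : Fact (Nat.Prime 3) := ⟨Nat.prime_three⟩
  refine BenderOne.LocalTools.zj_ne_bot hP.1 fun h => ?_
  have h1 : c.uu 1 ∈ P := hP.2.1 ⟨1, rfl⟩
  rw [h, mem_bot, c.uu_eq_one] at h1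
  exact one_ne_zero h1

/-- `t` inverts `Z(J(P))` or `U` lies in it; the fixed points lie in `U`. -/
theorem zj_cases :
    (∀ z ∈ Cfsg.centerThompsonAOf P, z * t = t * z → z ∈ c.U) ∧
      ((∀ z ∈ Cfsg.centerThompsonAOf P, z * t = t * z → z = 1) ∨
        c.U ≤ Cfsg.centerThompsonAOf P) := by
  haveI : Fact (Nat.Prime 3) := ⟨Nat.prime_three⟩
  set Z := Cfsg.centerThompsonAOf P with hZ
  have hPo : Odd (Nat.card P) := by
    obtain ⟨n, hn⟩ := IsPGroup.iff_card.1 hP.1
    rw [hn]; exact (show Odd 3 by decide).pow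
  set W := Z ⊓ centralizer ({t} : Set G) with hW
  have hWBF : W ≤ c.BF := fun g hg => c.mem_BF_of_odd
    (hPo.of_dvd_nat (card_dvd_of_le (inf_le_left : P ⊓ centralizer ({t} : Set G) ≤ P)))
    (le_inf hP.2.1 fun u hu => mem_centralizer_singleton_iff.2 (c.comm_t_BF (c.U_le_BF hu)))
    (fun z hz => mem_centralizer_singleton_iff.1 (mem_inf.1 hz).2)
    (inf_le_inf_right _ (ZJ.centerThompsonAOf_le P) hg)
  have hinv : ∀ w ∈ W, c.hh c₀ * w * (c.hh c₀)⁻¹ ∈ W := by
    intro w hw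
    obtain ⟨hwZ, hwt⟩ := mem_inf.1 hw
    refine mem_inf.2
      ⟨(mem_normalizer_iff.1 (hP.2.2.2 (c.B_le_BF (c.hh_mem_B c₀))) w).1 hwZ, ?_⟩
    have h1 : Commute t (c.hh c₀) := (c.comm_t (c.hh_mem c₀)).symm
    exact mem_centralizer_singleton_iff.2
      ((h1.mul_right (mem_centralizer_singleton_iff.1 hwt).symm).mul_right h1.inv_right).eq.symm
  have hle : W ≤ c.U :=
    Γ.le_U (hP.1.to_le (inf_le_left.trans (ZJ.centerThompsonAOf_le P))) hWBF hinv
  refine ⟨fun z hz hzt => hle (mem_inf.2 ⟨hz, mem_centralizer_singleton_iff.2 hzt⟩), ?_⟩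
  rcases Γ.irr hle hinv with h | h
  · refine Or.inl fun z hz hzt => mem_bot.1 ?_
    rw [← h]
    exact mem_inf.2 ⟨hz, mem_centralizer_singleton_iff.2 hzt⟩
  · exact Or.inr (h.trans inf_le_left)

/-- No four-group over `t` normalises `Z(J(P))`. -/
theorem eq_t_zj {j : G} (hjn : j ∈ normalizer (Cfsg.centerThompsonAOf P : Set G))
    (hjt : j * t = t * j) (hj : j * j = 1) : j = 1 ∨ j = t := by
  have htZ := ZJ.normalizer_le_normalizer_centerThompsonA P hP.2.2.1
  have hZp := hP.1.to_le (ZJ.centerThompsonAOf_le P)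
  rcases (c.zj_cases Γ hP).2 with h | h
  · by_contra hno
    push Not at hno
    refine c.zj_ne_bot Γ hP ((eq_bot_iff_forall _).2 fun z hz => h z hz ?_)
    exact (c.comm_of_normalizes hZp c.sq_t c.t_ne_one hj hno.1 hno.2.symm hjt.symm htZ hjn z hz).symm
  · exact c.eq_t_of_normalizes hZp htZ (one_ne_zero (α := F)) (h ⟨1, rfl⟩) hjn hjt hj

omit hP in
/-- The parabolic subgroup. -/
theorem exists_parabolic : ∃ (P : Sylow 3 G) (L : Subgroup G),
    c.Good (P : Subgroup G) ∧ (P : Subgroup G) ≤ L ∧ Odd (Nat.card L) ∧ c.BF ≤ L ∧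
      L ≤ normalizer (Cfsg.centerThompsonAOf (P : Subgroup G) : Set G) ∧
      t ∈ normalizer (L : Set G) ∧ (∀ g ∈ L, g * t = t * g → g ∈ c.BF) ∧
      ∀ g ∈ normalizer (Cfsg.centerThompsonAOf (P : Subgroup G) : Set G), g ∈ L ∨ g * t ∈ L := by
  haveI : Fact (Nat.Prime 3) := ⟨Nat.prime_three⟩
  obtain ⟨P₀, hP₀⟩ := c.exists_good
  obtain ⟨P, -, hP⟩ := Finite.exists_le_maximal (p := fun P : Subgroup G => c.Good P) hP₀
  obtain ⟨hPg, hmax⟩ := hP
  set H := normalizer (Cfsg.centerThompsonAOf P : Set G) with hH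
  have htH : t ∈ H := ZJ.normalizer_le_normalizer_centerThompsonA P hPg.2.2.1
  have hHj : ∀ j ∈ H, j * t = t * j → j * j = 1 → j = 1 ∨ j = t := fun j hj hjt hj2 =>
    c.eq_t_zj Γ hPg hj hjt hj2
  set L := Balance.coreIn 2 H with hLdef
  have hLo : Odd (Nat.card L) := Nat.coprime_two_right.1 (Balance.coreIn_coprime (p := 2) H)
  have hoddL : ∀ g ∈ H, Odd (orderOf g) → g ∈ L := fun g hg ho =>
    c.mem_coreIn_of_odd htH hHj hg ho
  have hPH : P ≤ H := le_normalizer.trans (ZJ.normalizer_le_normalizer_centerThompsonA P)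
  have hPo : Odd (Nat.card P) := by
    obtain ⟨n, hn⟩ := IsPGroup.iff_card.1 hPg.1
    rw [hn]; exact (show Odd 3 by decide).pow
  have hPL : P ≤ L := fun g hg => hoddL g (hPH hg) (odd_orderOf_of_mem hPo hg)
  have hBFL : c.BF ≤ L := fun g hg => hoddL g (hPg.2.2.2 hg) (odd_orderOf_of_mem c.odd_BF hg)
  have htL : t ∈ normalizer (L : Set G) := Balance.le_normalizer_coreIn H htH
  obtain ⟨P₁, hP₁, hPP₁, htP₁⟩ := BenderOne.LocalTools.exists_invariant (p := 3) c.ord htL hLo hPL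
    hPg.1 hPg.2.2.1
  have hgood : c.Good P₁ := ⟨hP₁.isPGroup, hPg.2.1.trans hPP₁, htP₁, fun g hg =>
    c.normalizes_zj hLo htL (c.U_le_BF.trans hBFL) hP₁ htP₁ (hBFL hg) (c.comm_t_BF hg)⟩
  have hPeq : P₁ = P := le_antisymm (hmax hgood hPP₁) hPP₁
  subst hPeq
  obtain ⟨Q, hQ⟩ := hPg.1.exists_le_sylow
  have hQo : Odd (Nat.card (Q : Subgroup G)) := by
    obtain ⟨n, hn⟩ := IsPGroup.iff_card.1 Q.isPGroup'
    rw [hn]; exact (show Odd 3 by decide).pow
  have hPQ : SylowIn 3 P₁ (Q : Subgroup G) := SylowIn.of_normalizer hQ hP₁ fun g hg =>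
    hoddL g (ZJ.normalizer_le_normalizer_centerThompsonA P₁ (mem_inf.1 hg).2)
      (odd_orderOf_of_mem hQo (mem_inf.1 hg).1)
  have hQP : (Q : Subgroup G) = P₁ := hPQ.eq_of_le hQ le_rfl Q.isPGroup'
  refine ⟨Q, L, by rwa [hQP], hQP ▸ hPL, hLo, hBFL, ?_, htL, ?_, ?_⟩
  · rw [hQP]; exact Balance.coreIn_le H
  · intro g hg hgt
    exact c.mem_BF_of_odd (X := L ⊓ centralizer ({t} : Set G))
      (hLo.of_dvd_nat (card_dvd_of_le inf_le_left))
      (le_inf (c.U_le_BF.trans hBFL) fun u hu =>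
        mem_centralizer_singleton_iff.2 (c.comm_t_BF (c.U_le_BF hu)))
      (fun z hz => mem_centralizer_singleton_iff.1 (mem_inf.1 hz).2)
      (mem_inf.2 ⟨hg, mem_centralizer_singleton_iff.2 hgt⟩)
  · rw [hQP]
    intro g hg
    exact c.exists_mul_coreIn htH hHj hg

end Cfsg.Agent.Lib.Walter.NoField.Cent.Chart
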